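import Mathlib.CategoryTheory.Sites.Continuous
import Mathlib.CategoryTheory.Sites.Closed
import Mathlib.CategoryTheory.Sites.LeftExact
import Mathlib.CategoryTheory.Sites.LocallyBijective

/-! # Consequences of continuity of a functor between sites (SGA 4 III 1.6) -/

set_option autoImplicit false
set_option linter.all false
set_option backward.isDefEq.respectTransparency false
set_option backward.defeqAttrib.useBackward true

universe v₁ v₂ u₁ u₂

open CategoryTheory Opposite Limits

namespace Groth.Agent.FibTop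

variable {C : Type u₁} [Category.{v₁} C] {D : Type u₂} [Category.{v₂} D]
  (J : GrothendieckTopology C) (K : GrothendieckTopology D) (F : C ⥤ D) [F.IsContinuous J K]

/-- a continuous functor sends covering sieves to covering sieves -/
lemma functorPushforward_mem {U : C} {R : Sieve U} (hR : R ∈ J U) :
    R.functorPushforward F ∈ K (F.obj U) := by
  rw [← K.close_eq_top_iff_mem]
  have hsep := (Functor.op_comp_isSheaf_of_isSheaf_type (F := F) J (classifier_isSheaf K) R hR).isSeparatedFor
  have htop : K.IsClosed (⊤ : Sieve (F.obj U)) := fun _ _ _ => trivial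
  suffices (⟨K.close (R.functorPushforward F), K.close_isClosed _⟩ :
      (Functor.closedSieves K).toFunctor.obj (op (F.obj U))) = ⟨(⊤ : Sieve (F.obj U)), htop⟩ by
    exact congrArg Subtype.val this
  refine hsep.ext (fun V g hg => ?_)
  apply Subtype.ext
  show (K.close (R.functorPushforward F)).pullback (F.map g) = (⊤ : Sieve (F.obj U)).pullback (F.map g)
  rw [Sieve.pullback_top, ← K.pullback_close,
    Sieve.pullback_eq_top_of_mem _ (Sieve.image_mem_functorPushforward F R hg), K.close_eq_top_iff_mem]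
  exact K.top_mem _

end Groth.Agent.FibTop

namespace Groth.Agent.FibTop

universe w z

variable {C : Type w} [Category.{z} C] {D : Type w} [Category.{z} D]
  {J : GrothendieckTopology C} {K : GrothendieckTopology D} {F : C ⥤ D} {U : C}


/-- the pieces of the left Kan extension of a sieve -/
abbrev Piece (F : C ⥤ D) (R : Sieve U) (W : D) : Type max w z :=
  Σ (V : C) (_ : {r : V ⟶ U // R r}), (W ⟶ F.obj V)

/-- the elementary relation between pieces -/
def Step (F : C ⥤ D) {R : Sieve U} {W : D} (a b : Piece F R W) : Prop :=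
  ∃ e : a.1 ⟶ b.1, e ≫ b.2.1.1 = a.2.1.1 ∧ a.2.2 ≫ F.map e = b.2.2

def Piece.res {R : Sieve U} {W W' : D} (k : W' ⟶ W) (a : Piece F R W) : Piece F R W' :=
  ⟨a.1, a.2.1, k ≫ a.2.2⟩

variable (F) in
/-- the left Kan extension of a sieve, as a presheaf of quotients -/
def lanSieve (R : Sieve U) : Dᵒᵖ ⥤ Type max w z where
  obj W := Quot (Step F (R := R) (W := W.unop))
  map {W W'} k := ↾(fun q => Quot.map (Piece.res k.unop) (fun a b ⟨e, he, he'⟩ =>
    ⟨e, he, by simp only [Piece.res, Category.assoc, he']⟩) q)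
  map_id W := by
    ext q
    obtain ⟨⟨V, r, η⟩, rfl⟩ := Quot.exists_rep q
    exact congrArg (Quot.mk _) (by simp [Piece.res])
  map_comp {W W' W''} k k' := by
    ext q
    obtain ⟨⟨V, r, η⟩, rfl⟩ := Quot.exists_rep q
    exact congrArg (Quot.mk _) (by simp [Piece.res])

/-- two pieces with the same image are locally connected -/
lemma locally_connected [F.IsContinuous J K] {R : Sieve U} (hR : R ∈ J U) {W : D} (a b : Piece F R W)
    (h : a.2.2 ≫ F.map a.2.1.1 = b.2.2 ≫ F.map b.2.1.1) :
    ∃ Q ∈ K W, ∀ ⦃W' : D⦄ (k : W' ⟶ W), Q k → Relation.EqvGen (Step F) (a.res k) (b.res k) := by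
  let L := lanSieve F R
  let η := toSheafify K L
  have hG : Presieve.IsSheaf K (sheafify K L) :=
    (isSheaf_iff_isSheaf_of_type _ _).1 ((presheafToSheaf K _).obj L).property
  let x : Presieve.FamilyOfElements (F.op ⋙ sheafify K L) R.arrows := fun V r hr =>
    η.app (op (F.obj V)) (Quot.mk _ ⟨V, ⟨r, hr⟩, 𝟙 _⟩)
  have hx : x.Compatible := by
    intro V₁ V₂ Z g₁ g₂ f₁ f₂ h₁ h₂ e
    refine (NatTrans.naturality_apply η (F.map g₁).op _).symm.trans
      (Eq.trans (congrArg _ ?_) (NatTrans.naturality_apply η (F.map g₂).op _))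
    show Quot.mk _ _ = Quot.mk _ _
    exact (Quot.sound (a := (⟨Z, ⟨g₁ ≫ f₁, R.downward_closed h₁ g₁⟩, 𝟙 _⟩ : Piece F R _))
        ⟨g₁, rfl, by simp [Piece.res]⟩).symm.trans
      (Quot.sound ⟨g₂, e.symm, by simp [Piece.res]⟩)
  let s := (Functor.op_comp_isSheaf_of_isSheaf_type (F := F) J hG R hR).amalgamate x hx
  have hs : ∀ c : Piece F R W, η.app (op W) (Quot.mk _ c) = (sheafify K L).map (c.2.2 ≫ F.map c.2.1.1).op s := by
    rintro ⟨V, ⟨r, hr⟩, e⟩
    rw [op_comp, Functor.map_comp_apply]
    refine Eq.trans ?_ (congrArg _ ((Functor.op_comp_isSheaf_of_isSheaf_type (F := F) J hG R hR).valid_glue hx r hr).symm)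
    refine Eq.trans (congrArg _ ?_) (NatTrans.naturality_apply η e.op _)
    exact congrArg (Quot.mk _) (by simp [Piece.res])
  refine ⟨_, Presheaf.equalizerSieve_mem K η (Quot.mk _ a : L.obj (op W)) (Quot.mk _ b)
    (by rw [hs, hs, h]), fun W' k hk => ?_⟩
  exact Quot.eqvGen_exact hk

end Groth.Agent.FibTop
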