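import Groth.Prelude.Def_FibSite
import Groth.Agent.FibTop.Continuity
import Mathlib.CategoryTheory.Sites.InducedTopology

/-! # The total topology of a fibred site -/

set_option autoImplicit false
set_option linter.all false
set_option backward.isDefEq.respectTransparency false
set_option backward.isDefEq.respectTransparency.types false
set_option backward.defeqAttrib.useBackward true

universe v₃ u₃ v₂ u₂ v₁ u₁

open CategoryTheory Opposite Pseudofunctor.CoGrothendieck Limits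
open FibSite

namespace Groth.Agent.FibTop

variable {𝒮 : Type u₁} [Category.{v₁} 𝒮] {F : Pseudofunctor (LocallyDiscrete 𝒮ᵒᵖ) Cat.{v₂, u₂}}

/-- a morphism of the total category -/
abbrev hom {R S : 𝒮} {V : F.obj ⟨op R⟩} {U : F.obj ⟨op S⟩} (f : R ⟶ S) (φ : V ⟶ (invImage F f).obj U) :
    (⟨R, V⟩ : ∫ᶜ F) ⟶ ⟨S, U⟩ := ⟨f, φ⟩

lemma ι_comp_hom {R S : 𝒮} {V V' : F.obj ⟨op R⟩} {U : F.obj ⟨op S⟩} (k : V' ⟶ V) (f : R ⟶ S)
    (φ : V ⟶ (invImage F f).obj U) : (ι F R).map k ≫ hom f φ = hom f (k ≫ φ) := by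
  refine Hom.ext _ _ (Category.id_comp f) ?_
  simp [F.mapComp_id_right_inv_app, Bicategory.Strict.rightUnitor_eqToIso, ← NatTrans.naturality_assoc,
    ← Cat.Hom₂.comp_app, PrelaxFunctor.map₂_eqToHom]

lemma hom_comp_ι {R S : 𝒮} {V : F.obj ⟨op R⟩} {U U' : F.obj ⟨op S⟩} (f : R ⟶ S)
    (φ : V ⟶ (invImage F f).obj U) (r : U ⟶ U') :
    hom f φ ≫ (ι F S).map r = hom f (φ ≫ (invImage F f).map r) := by
  refine Hom.ext _ _ (Category.comp_id f) ?_
  simp [F.mapComp_id_left_inv_app, Bicategory.Strict.leftUnitor_eqToIso, ← Functor.map_comp_assoc,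
    ← Cat.Hom₂.comp_app, PrelaxFunctor.map₂_eqToHom]

lemma hom_surjective {R S : 𝒮} {V : F.obj ⟨op R⟩} {U : F.obj ⟨op S⟩} (g : (ι F R).obj V ⟶ (ι F S).obj U) :
    ∃ f φ, g = hom (R := R) (S := S) (V := V) (U := U) f φ := ⟨g.base, g.fiber, rfl⟩

lemma hom_eq_iff {R S : 𝒮} {V : F.obj ⟨op R⟩} {U : F.obj ⟨op S⟩} {f f' : R ⟶ S}
    {φ : V ⟶ (invImage F f).obj U} {φ' : V ⟶ (invImage F f').obj U} (h : hom f φ = hom f' φ') :
    f = f' ∧ HEq φ φ' := by
  injection h with h₁ h₂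
  exact ⟨h₁, h₂⟩

lemma hom_injective {R S : 𝒮} {V : F.obj ⟨op R⟩} {U : F.obj ⟨op S⟩} {f : R ⟶ S}
    {φ φ' : V ⟶ (invImage F f).obj U} (h : hom f φ = hom f φ') : φ = φ' :=
  eq_of_heq (hom_eq_iff h).2

lemma ι_map_eq_hom {S : 𝒮} {V U : F.obj ⟨op S⟩} (k : V ⟶ U) :
    (ι F S).map k = hom (𝟙 S) (k ≫ (F.mapId ⟨op S⟩).inv.toNatTrans.app U) := rfl

lemma pmap {X Y Z : ∫ᶜ F} (P : (∫ᶜ F)ᵒᵖ ⥤ Type u₃) (a : X ⟶ Y) (b : Y ⟶ Z) (t : P.obj (op Z)) :
    P.map a.op (P.map b.op t) = P.map (a ≫ b).op t := by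
  rw [op_comp, Functor.map_comp_apply]

variable (J : Topologies F)

/-- the pullback of the image of a covering sieve of a fibre -/
def pullSieve {R S : 𝒮} {V : F.obj ⟨op R⟩} {U : F.obj ⟨op S⟩} (g : (ι F R).obj V ⟶ (ι F S).obj U) (T : Sieve U) :
    Sieve V :=
  ((T.functorPushforward (ι F S)).pullback g).functorPullback (ι F R)

variable {J} (hF : IsPreFibSite F J)
include hF

lemma pullSieve_mem {R S : 𝒮} {V : F.obj ⟨op R⟩} {U : F.obj ⟨op S⟩} (g : (ι F R).obj V ⟶ (ι F S).obj U)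
    {T : Sieve U} (hT : T ∈ J S U) : pullSieve g T ∈ J R V := by
  obtain ⟨f, φ, rfl⟩ := hom_surjective g
  haveI := hF f
  refine (J R).superset_covering ?_ ((J R).pullback_stable φ (functorPushforward_mem (J S) (J R) (invImage F f) hT))
  rintro W k ⟨Z, r, h, hr, he⟩
  refine ⟨Z, r, hom f h, hr, ?_⟩
  rw [hom_comp_ι, ι_comp_hom, he]

/-- the total topology, described by its covering sieves -/
def gen : GrothendieckTopology (∫ᶜ F) where
  sieves X := {S | ∃ R ∈ J X.base X.fiber, Sieve.functorPushforward (ι F X.base) R ≤ S}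
  top_mem' X := ⟨⊤, (J _).top_mem _, le_top⟩
  pullback_stable' := by
    rintro ⟨S, U⟩ ⟨R, V⟩ T g ⟨Q, hQ, hle⟩
    refine ⟨pullSieve g Q, pullSieve_mem hF g hQ, ?_⟩
    rw [Sieve.functorPushforward_le_iff_le_functorPullback]
    intro W k hk
    exact hle _ hk
  transitive' := by
    rintro ⟨S, U⟩ T ⟨Q, hQ, hle⟩ T' h
    refine ⟨T'.functorPullback (ι F S), (J S).transitive hQ _ (fun V r hr => ?_),
      (Sieve.functorPushforward_le_iff_le_functorPullback _ _ _).2 le_rfl⟩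
    obtain ⟨Q', hQ', hle'⟩ := h (hle _ (Sieve.image_mem_functorPushforward _ _ hr))
    refine (J S).superset_covering ?_ hQ'
    intro W k hk
    have := hle' _ (Sieve.image_mem_functorPushforward (ι F S) _ hk)
    show T' ((ι F S).map (k ≫ r))
    rw [Functor.map_comp]
    exact this

lemma mem_total_iff (X : ∫ᶜ F) (S : Sieve X) :
    S ∈ totalTopology F J X ↔ ∃ R ∈ J X.base X.fiber, Sieve.functorPushforward (ι F X.base) R ≤ S := by
  refine ⟨fun h => ?_, ?_⟩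
  · exact totalTopology_le (K := gen hF) (fun S U R hR => ⟨R, hR, le_rfl⟩) X h
  · rintro ⟨R, hR, hle⟩
    exact (totalTopology F J).superset_covering hle (functorPushforward_mem_totalTopology hR)

lemma ι_isCocontinuous (S : 𝒮) : (ι F S).IsCocontinuous (J S) (totalTopology F J) := ⟨fun {U T} hT => by
  obtain ⟨R, hR, hle⟩ := (mem_total_iff hF _ T).1 hT
  exact (J S).superset_covering (fun V r hr => hle _ (Sieve.image_mem_functorPushforward _ _ hr)) hR⟩

lemma isSheaf_of_fibres {P : (∫ᶜ F)ᵒᵖ ⥤ Type u₃}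
    (h : ∀ S : 𝒮, Presieve.IsSheaf (J S) ((ι F S).op ⋙ P)) : Presieve.IsSheaf (totalTopology F J) P := by
  rintro ⟨S, U⟩ T hT x hx
  obtain ⟨Q, hQ, hle⟩ := (mem_total_iff hF _ T).1 hT
  let y : Presieve.FamilyOfElements ((ι F S).op ⋙ P) Q.arrows := fun V r hr =>
    x ((ι F S).map r) (hle _ (Sieve.image_mem_functorPushforward _ _ hr))
  have hy : y.Compatible := fun V₁ V₂ Z g₁ g₂ f₁ f₂ h₁ h₂ e =>
    hx ((ι F S).map g₁) ((ι F S).map g₂) _ _ (by rw [← Functor.map_comp, ← Functor.map_comp, e])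
  let s := (h S Q hQ).amalgamate y hy
  have hkey : ∀ {V : F.obj ⟨op S⟩} (r : V ⟶ U) (hr : Q r),
      P.map ((ι F S).map r).op s = x ((ι F S).map r) (hle _ (Sieve.image_mem_functorPushforward _ _ hr)) :=
    fun r hr => (h S Q hQ).valid_glue hy r hr
  refine ⟨s, ?_, fun t ht => (h S Q hQ).isSeparatedFor.ext fun V r hr => (ht _ _).trans (hkey r hr).symm⟩
  rintro ⟨R, V⟩ g hg
  refine (h R _ (pullSieve_mem hF g hQ)).isSeparatedFor.ext fun W k hk => ?_
  show P.map ((ι F R).map k).op (P.map g.op s) = P.map ((ι F R).map k).op (x g hg)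
  obtain ⟨Z, r, a, hr, he⟩ := hk
  refine (pmap P _ g s).trans ?_
  rw [he]
  refine (pmap P a _ s).symm.trans ((congrArg (P.map a.op) (hkey r hr)).trans ?_)
  exact hx a ((ι F R).map k) _ hg he.symm

lemma isSheaf_fibre {P : (∫ᶜ F)ᵒᵖ ⥤ Type u₃} (hP : Presieve.IsSheaf (totalTopology F J) P) (S : 𝒮) :
    Presieve.IsSheaf (J S) ((ι F S).op ⋙ P) := by
  intro U Q hQ x hx
  have key : ∀ {T : 𝒮} {W : F.obj ⟨op T⟩} (b : T ⟶ S) (c d : Piece (invImage F b) Q W),
      Relation.EqvGen (Step (invImage F b)) c d →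
      P.map (hom b c.2.2).op (x c.2.1.1 c.2.1.2) = P.map (hom b d.2.2).op (x d.2.1.1 d.2.1.2) := by
    intro T W b c d hcd
    induction hcd with
    | rel c d hcd =>
      obtain ⟨e, he, he'⟩ := hcd
      have h2 := hx e (𝟙 _) d.2.1.2 c.2.1.2 (by simpa using he)
      simp only [op_id, Functor.map_id_apply] at h2
      rw [← h2]
      refine (pmap P (hom b c.2.2) ((ι F S).map e) _).trans ?_
      rw [hom_comp_ι, he']
      rfl
    | refl c => rfl
    | symm c d _ ih => exact ih.symm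
    | trans c d e _ _ ih ih' => exact ih.trans ih'
  let y : Presieve.FamilyOfElements P (Q.functorPushforward (ι F S)).arrows :=
    fun Z g hg => P.map hg.choose_spec.choose_spec.choose.op
      (x hg.choose_spec.choose hg.choose_spec.choose_spec.choose_spec.1)
  have hwd : ∀ {Z : ∫ᶜ F} {V₁ V₂ : F.obj ⟨op S⟩} (r₁ : V₁ ⟶ U) (r₂ : V₂ ⟶ U) (h₁ : Q r₁) (h₂ : Q r₂)
      (a₁ : Z ⟶ (ι F S).obj V₁) (a₂ : Z ⟶ (ι F S).obj V₂),
      a₁ ≫ (ι F S).map r₁ = a₂ ≫ (ι F S).map r₂ → P.map a₁.op (x r₁ h₁) = P.map a₂.op (x r₂ h₂) := by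
    rintro ⟨T, W⟩ V₁ V₂ r₁ r₂ h₁ h₂ a₁ a₂ he
    obtain ⟨b, φ₁, rfl⟩ := hom_surjective (R := T) (S := S) (V := W) (U := V₁) a₁
    obtain ⟨b', φ₂, rfl⟩ := hom_surjective (R := T) (S := S) (V := W) (U := V₂) a₂
    rw [hom_comp_ι, hom_comp_ι] at he
    obtain ⟨rfl, -⟩ := hom_eq_iff he
    haveI := hF b
    obtain ⟨K, hK, hconn⟩ := locally_connected (J := J S) (K := J T) (F := invImage F b) hQ
      (⟨V₁, ⟨r₁, h₁⟩, φ₁⟩ : Piece (invImage F b) Q W) ⟨V₂, ⟨r₂, h₂⟩, φ₂⟩ (hom_injective he)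
    refine (hP _ (functorPushforward_mem_totalTopology hK)).isSeparatedFor.ext ?_
    rintro Z g ⟨W', k, c, hk, rfl⟩
    refine (pmap P c _ _).symm.trans (Eq.trans ?_ (pmap P c _ _))
    refine congrArg (P.map c.op) ?_
    refine (pmap P _ _ _).trans (Eq.trans ?_ (pmap P _ _ _).symm)
    rw [ι_comp_hom, ι_comp_hom]
    exact key b _ _ (hconn k hk)
  have hy : y.Compatible := by
    intro Z₁ Z₂ W g₁ g₂ f₁ f₂ h₁ h₂ e
    refine (pmap P g₁ _ _).trans (Eq.trans ?_ (pmap P g₂ _ _).symm)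
    refine hwd _ _ _ _ _ _ ?_
    rw [Category.assoc, Category.assoc, ← h₁.choose_spec.choose_spec.choose_spec.2,
      ← h₂.choose_spec.choose_spec.choose_spec.2, e]
  have hsh := hP _ (functorPushforward_mem_totalTopology hQ)
  refine ⟨hsh.amalgamate y hy, fun V r hr => ?_, fun t ht => ?_⟩
  · refine (hsh.valid_glue hy _ (Sieve.image_mem_functorPushforward _ _ hr)).trans ?_
    refine (hwd _ r _ hr _ (𝟙 _) ?_).trans (by simp)
    rw [Category.id_comp]
    exact (Sieve.image_mem_functorPushforward (ι F S) Q hr).choose_spec.choose_spec.choose_spec.2.symm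
  · refine hsh.isSeparatedFor.ext ?_
    rintro Z g hg
    rw [hsh.valid_glue hy g hg]
    obtain ⟨V, r, a, hr, rfl⟩ := id hg
    refine (pmap P a _ t).symm.trans ?_
    refine (congrArg (P.map a.op) (ht r hr)).trans (hwd _ _ hr _ _ _ ?_)
    exact hg.choose_spec.choose_spec.choose_spec.2

lemma isSheaf_iff {A : Type u₃} [Category.{v₃} A] (P : (∫ᶜ F)ᵒᵖ ⥤ A) :
    Presheaf.IsSheaf (totalTopology F J) P ↔ ∀ S : 𝒮, Presheaf.IsSheaf (J S) ((ι F S).op ⋙ P) :=
  ⟨fun h S E => isSheaf_fibre hF (h E) S, fun h E => isSheaf_of_fibres hF (fun S => h S E)⟩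

lemma ι_isContinuous (S : 𝒮) : (ι F S).IsContinuous (J S) (totalTopology F J) :=
  ⟨fun G => isSheaf_fibre hF ((isSheaf_iff_isSheaf_of_type _ _).1 G.property) S⟩

lemma isContinuous_iff {D : Type u₃} [Category.{v₃} D] (K : GrothendieckTopology D) (m : ∫ᶜ F ⥤ D) :
    m.IsContinuous (totalTopology F J) K ↔ ∀ S : 𝒮, (ι F S ⋙ m).IsContinuous (J S) K := by
  refine ⟨fun h S => ?_, fun h => ⟨fun G => ?_⟩⟩
  · haveI := ι_isContinuous hF S
    exact Functor.isContinuous_comp (ι F S) m (J S) (totalTopology F J) K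
  · refine isSheaf_of_fibres hF (fun S => ?_)
    haveI := h S
    exact Functor.op_comp_isSheaf_of_types (F := ι F S ⋙ m) (J S) K G

lemma inducedTopology_ι (S : 𝒮) : (ι F S).inducedTopology (totalTopology F J) = J S := by
  refine le_antisymm (fun U R hR => ?_) ((Functor.le_inducedTopology_iff (F := ι F S) (K := totalTopology F J)).2 (ι_isContinuous hF S))
  obtain ⟨Q, hQ, hle⟩ := (mem_total_iff hF _ _).1
    (functorPushforward_mem ((ι F S).inducedTopology (totalTopology F J)) (totalTopology F J) (ι F S) hR)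
  refine (J S).superset_covering ?_ hQ
  intro V k hk
  obtain ⟨Z, r, h, hr, he⟩ := hle _ (Sieve.image_mem_functorPushforward (ι F S) Q hk)
  have hb : (h ≫ (ι F S).map r).base = 𝟙 S := by rw [← he]; rfl
  obtain ⟨b, φ, rfl⟩ := hom_surjective (R := S) (S := S) (V := V) (U := Z) h
  obtain rfl : b = 𝟙 S := (Category.comp_id b).symm.trans hb
  have e2 : φ ≫ (F.mapId ⟨op S⟩).hom.toNatTrans.app Z ≫ r = k := by
    rw [hom_comp_ι, ι_map_eq_hom] at he
    have := congrArg (· ≫ (F.mapId ⟨op S⟩).hom.toNatTrans.app U) (hom_injective he)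
    simp [← Cat.Hom₂.comp_app] at this
    rw [this]
  rw [← e2, ← Category.assoc]
  exact R.downward_closed hr _

end Groth.Agent.FibTop
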