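import Groth.Agent.FibTop.FibreMap

/-! # Bicovering morphisms of a fibre and of the total category -/

set_option autoImplicit false
set_option linter.all false
set_option backward.isDefEq.respectTransparency false
set_option backward.isDefEq.respectTransparency.types false
set_option backward.defeqAttrib.useBackward true

universe u

open CategoryTheory Opposite Pseudofunctor.CoGrothendieck Limits
open FibSite

namespace Groth.Agent.FibTop

variable {𝒮 : Type u} [SmallCategory 𝒮] {F : Pseudofunctor (LocallyDiscrete 𝒮ᵒᵖ) Cat.{u, u}} {J : Topologies F}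

lemma bijective_of_pointed (hF : IsPreFibSite F J) {i : 𝒮} {P Q : (F.obj ⟨op i⟩)ᵒᵖ ⥤ Type u} (v : P ⟶ Q)
    (hv : (totalTopology F J).W (((ι F i).op.lan (H := Type u)).map v))
    (b : Sheaf (J i) (Type u)) (s : ∀ V, b.obj.obj V) (hs : ∀ {V V'} (k : V ⟶ V'), b.obj.map k (s V) = s V') :
    Function.Bijective (fun φ : Q ⟶ b.obj => v ≫ φ) := by
  haveI := ι_isContinuous hF
  haveI := ι_isCocontinuous hF
  have hbij : Function.Bijective (fun φ : Q ⟶ (ι F i).op ⋙ (coPsh F i).obj b.obj => v ≫ φ) :=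
    (((ι F i).op.lanAdjunction (Type u)).map_comp_bijective_iff v ((coPsh F i).obj b.obj)).1
      (hv _ (coPsh_isSheaf F J i b))
  let i₀ := sect F b.obj s hs
  let r₀ := (coPshAdj F i).counit.app b.obj
  have hret : i₀ ≫ r₀ = 𝟙 _ := sect_counit F b.obj s hs
  refine ⟨fun φ ψ h => ?_, fun φ => ?_⟩
  · have h' : v ≫ φ ≫ i₀ = v ≫ ψ ≫ i₀ := by rw [← Category.assoc, ← Category.assoc]; exact congrArg (· ≫ i₀) h
    have := congrArg (· ≫ r₀) (hbij.1 h')
    simp only [Category.assoc] at this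
    rw [← Category.comp_id φ, ← Category.comp_id ψ, ← hret]
    exact this
  · obtain ⟨ψ, hψ⟩ := hbij.2 (φ ≫ i₀)
    refine ⟨ψ ≫ r₀, ?_⟩
    show v ≫ ψ ≫ r₀ = φ
    rw [← Category.assoc, show v ≫ ψ = φ ≫ i₀ from hψ, Category.assoc, hret, Category.comp_id]

lemma W_iff_W_lan (hF : IsPreFibSite F J) (i : 𝒮) {R : (F.obj ⟨op i⟩)ᵒᵖ ⥤ Type u} {U : F.obj ⟨op i⟩}
    (v : R ⟶ yoneda.obj U) :
    (J i).W v ↔ (totalTopology F J).W (((ι F i).op.lan (H := Type u)).map v) := by
  constructor
  · intro h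
    haveI := ι_isContinuous hF
    exact Functor.W_map_of_adjunction_of_isContinuous (J i) (totalTopology F J) (ι F i) _
      ((ι F i).op.lanAdjunction (Type u)) v h
  intro h Z hZ
  let b : Sheaf (J i) (Type u) := ⟨Z, hZ⟩
  let b' : Sheaf (J i) (Type u) := b ⨿ ⊤_ _
  let p : ⊤_ (Sheaf (J i) (Type u)) ⟶ b' := coprod.inr
  let inc : b ⟶ b' := coprod.inl
  haveI : Mono inc := inferInstanceAs (Mono (coprod.inl : b ⟶ b ⨿ ⊤_ _))
  have hinj : ∀ V, Function.Injective (inc.hom.app V) := fun V =>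
    (mono_iff_injective _).1 (inferInstanceAs (Mono (inc.hom.app V)))
  have hb' := bijective_of_pointed hF v h b' (pointVal p) (fun k => pointVal_map p k)
  have hbs : Presieve.IsSheaf (J i) Z := (isSheaf_iff_isSheaf_of_type _ _).1 hZ
  have hb's : Presieve.IsSheaf (J i) b'.obj := (isSheaf_iff_isSheaf_of_type _ _).1 b'.property
  let T : Sieve U :=
    { arrows := fun V k => ∃ x : R.obj (op V), v.app (op V) x = k
      downward_closed := by
        rintro V V' k ⟨x, rfl⟩ g
        exact ⟨R.map g.op x, NatTrans.naturality_apply v g.op x⟩ }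
  have hT : T ∈ J i U := by
    rw [← (J i).close_eq_top_iff_mem]
    have htop : ∀ {V : F.obj ⟨op i⟩}, (J i).IsClosed (⊤ : Sieve V) := fun {V} _ _ _ => trivial
    let Ω : Sheaf (J i) (Type u) := ⟨(Functor.closedSieves (J i)).toFunctor,
      (isSheaf_iff_isSheaf_of_type _ _).2 (classifier_isSheaf (J i))⟩
    have hΩ := bijective_of_pointed hF v h Ω (fun V => ⟨(⊤ : Sieve V.unop), htop⟩)
      (fun k => Subtype.ext (Sieve.pullback_top))
    let e := yonedaEquiv (X := U) (F := Ω.obj)
    have := congrArg e (hΩ.1 (a₁ := e.symm ⟨(J i).close T, (J i).close_isClosed T⟩)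
      (a₂ := e.symm ⟨(⊤ : Sieve U), htop⟩) (by
        ext V x
        apply Subtype.ext
        show ((J i).close T).pullback (v.app V x) = (⊤ : Sieve U).pullback (v.app V x)
        rw [Sieve.pullback_top, ← (J i).pullback_close, Sieve.pullback_eq_top_of_mem T ⟨x, rfl⟩,
          (J i).close_eq_top_iff_mem]
        exact (J i).top_mem _))
    rw [Equiv.apply_symm_apply, Equiv.apply_symm_apply] at this
    exact congrArg Subtype.val this
  refine ⟨fun φ ψ hφ => ?_, fun φ => ?_⟩
  · haveI : Mono inc.hom := (NatTrans.mono_iff_mono_app _).2 (fun V => (mono_iff_injective _).2 (hinj V))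
    exact (cancel_mono inc.hom).1 (hb'.1 (by
      show v ≫ φ ≫ inc.hom = v ≫ ψ ≫ inc.hom
      rw [← Category.assoc, ← Category.assoc]
      exact congrArg (· ≫ inc.hom) hφ))
  · obtain ⟨ψ, hψ⟩ := hb'.2 (φ ≫ inc.hom)
    have hv : ∀ {V} (x : R.obj V), ψ.app V (v.app V x) = inc.hom.app V (φ.app V x) := fun {V} x =>
      ConcreteCategory.congr_hom (NatTrans.congr_app hψ V) x
    have hnat : ∀ {V : F.obj ⟨op i⟩} (k : V ⟶ U), b'.obj.map k.op (ψ.app (op U) (𝟙 U)) = ψ.app (op V) k := fun {V} k => by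
      rw [← NatTrans.naturality_apply ψ k.op (𝟙 U)]
      exact congrArg _ (Category.comp_id k)
    have hc : ∀ {V : F.obj ⟨op i⟩} (k : V ⟶ U) (hk : T k), inc.hom.app (op V) (φ.app (op V) hk.choose) =
        b'.obj.map k.op (ψ.app (op U) (𝟙 U)) := fun {V} k hk => by
      rw [hnat, ← hv, hk.choose_spec]
    let y : Presieve.FamilyOfElements Z T.arrows := fun V k hk => φ.app (op V) hk.choose
    have hy : y.Compatible := fun V₁ V₂ W g₁ g₂ f₁ f₂ h₁ h₂ e => hinj _ (by
      refine (NatTrans.naturality_apply inc.hom g₁.op _).trans (Eq.trans ?_ (NatTrans.naturality_apply inc.hom g₂.op _).symm)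
      rw [hc f₁ h₁, hc f₂ h₂, ← Functor.map_comp_apply, ← Functor.map_comp_apply, ← op_comp, ← op_comp, e])
    let z := (hbs T hT).amalgamate y hy
    have hz : inc.hom.app (op U) z = ψ.app (op U) (𝟙 U) := (hb's T hT).isSeparatedFor.ext fun V k hk => by
      refine (NatTrans.naturality_apply inc.hom k.op z).symm.trans ?_
      exact (congrArg _ ((hbs T hT).valid_glue hy k hk)).trans (hc k hk)
    refine ⟨yonedaEquiv.symm z, ?_⟩
    ext V x
    apply hinj
    refine (NatTrans.naturality_apply inc.hom (v.app V x : V.unop ⟶ U).op z).trans ?_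
    rw [hz, hnat]
    exact hv x

end Groth.Agent.FibTop
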