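import Groth.Agent.FibTop.Basic
import Mathlib.CategoryTheory.Adjunction.Triple
import Mathlib.CategoryTheory.Sites.Limits
import Mathlib.CategoryTheory.Limits.FunctorCategory.Basic

/-! # Coextension from a fibre to the total topos -/

set_option autoImplicit false
set_option linter.all false
set_option backward.isDefEq.respectTransparency false
set_option backward.isDefEq.respectTransparency.types false
set_option backward.defeqAttrib.useBackward true

universe u

open CategoryTheory Opposite Pseudofunctor.CoGrothendieck Limits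
open FibSite

namespace Groth.Agent.FibTop

variable {𝒮 : Type u} [SmallCategory 𝒮] (F : Pseudofunctor (LocallyDiscrete 𝒮ᵒᵖ) Cat.{u, u})

/-- right adjoint of the restriction of presheaves to the fibre over `i` -/
def coPsh (i : 𝒮) : ((F.obj ⟨op i⟩)ᵒᵖ ⥤ Type u) ⥤ ((∫ᶜ F)ᵒᵖ ⥤ Type u) where
  obj G := yoneda.op ⋙ ((Functor.whiskeringLeft _ _ (Type u)).obj (ι F i).op).op ⋙ yoneda.obj G
  map {G G'} β := Functor.whiskerLeft _ (Functor.whiskerLeft _ (yoneda.map β))

lemma coPsh_map_app {i : 𝒮} (G : (F.obj ⟨op i⟩)ᵒᵖ ⥤ Type u) {X Y : ∫ᶜ F} (g : Y ⟶ X)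
    (φ : ((coPsh F i).obj G).obj (op X)) (V : (F.obj ⟨op i⟩)ᵒᵖ) (t : (ι F i).obj V.unop ⟶ Y) :
    (((coPsh F i).obj G).map g.op φ).app V t = φ.app V (t ≫ g) := rfl

lemma coPsh_app_natural {i : 𝒮} (G : (F.obj ⟨op i⟩)ᵒᵖ ⥤ Type u) {X : ∫ᶜ F}
    (φ : ((coPsh F i).obj G).obj (op X)) {V V' : (F.obj ⟨op i⟩)ᵒᵖ} (k : V ⟶ V') (t : (ι F i).obj V.unop ⟶ X) :
    φ.app V' ((ι F i).map k.unop ≫ t) = G.map k (φ.app V t) := NatTrans.naturality_apply φ k t

def coPshAdj (i : 𝒮) : (Functor.whiskeringLeft _ _ (Type u)).obj (ι F i).op ⊣ coPsh F i :=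
  Adjunction.mkOfHomEquiv
    { homEquiv := fun Q G =>
        { toFun := fun φ =>
            { app := fun X => ↾(fun q =>
                { app := fun V => ↾(fun t => φ.app V (Q.map t.op q))
                  naturality := fun V V' k => by
                    ext t
                    show φ.app V' (Q.map (((ι F i).map k.unop) ≫ t).op q) = G.map k (φ.app V (Q.map t.op q))
                    rw [op_comp, Functor.map_comp_apply]
                    exact NatTrans.naturality_apply φ k _ })
              naturality := fun X X' g => by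
                ext q
                apply NatTrans.ext
                funext V
                ext t
                show φ.app V (Q.map t.op (Q.map g q)) = φ.app V (Q.map (t ≫ g.unop).op q)
                rw [op_comp, Functor.map_comp_apply]
                rfl }
          invFun := fun ψ =>
            { app := fun V => ↾(fun q => (ψ.app (op ((ι F i).obj V.unop)) q).app V (𝟙 _))
              naturality := fun V V' k => by
                ext q
                let w : ((coPsh F i).obj G).obj (op ((ι F i).obj V.unop)) := ψ.app (op ((ι F i).obj V.unop)) q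
                have h1 : ψ.app (op ((ι F i).obj V'.unop)) (Q.map ((ι F i).map k.unop).op q) =
                    ((coPsh F i).obj G).map ((ι F i).map k.unop).op w :=
                  NatTrans.naturality_apply ψ ((ι F i).map k.unop).op q
                have h2 := (congrArg (fun z : ((coPsh F i).obj G).obj (op ((ι F i).obj V'.unop)) => z.app V' (𝟙 _)) h1).trans
                  (coPsh_map_app F G ((ι F i).map k.unop) w V' (𝟙 _))
                refine h2.trans (Eq.trans ?_ (coPsh_app_natural F G w k (𝟙 _)))
                exact congrArg (w.app V') ((Category.id_comp _).trans (Category.comp_id _).symm) }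
          left_inv := fun φ => by
            ext V q
            show φ.app V (Q.map (𝟙 ((ι F i).obj V.unop)).op q) = φ.app V q
            simp
          right_inv := fun ψ => by
            ext X q
            apply NatTrans.ext
            funext V
            ext t
            have h1 : ψ.app (op ((ι F i).obj V.unop)) (Q.map (Quiver.Hom.op (show (ι F i).obj V.unop ⟶ X.unop from t)) q) =
                ((coPsh F i).obj G).map (Quiver.Hom.op (show (ι F i).obj V.unop ⟶ X.unop from t)) (ψ.app X q) :=
              NatTrans.naturality_apply ψ (Quiver.Hom.op (show (ι F i).obj V.unop ⟶ X.unop from t)) q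
            refine ((congrArg (fun z : ((coPsh F i).obj G).obj (op ((ι F i).obj V.unop)) => z.app V (𝟙 _)) h1).trans
              (coPsh_map_app F G (show (ι F i).obj V.unop ⟶ X.unop from t) (ψ.app X q) V (𝟙 _))).trans ?_
            exact congrArg ((ψ.app X q).app V) (Category.id_comp _) }
      homEquiv_naturality_left_symm := fun f g => rfl
      homEquiv_naturality_right := fun f g => rfl }

/-- the components of a section of the coextension -/
def ev {i j : 𝒮} (f : i ⟶ j) (G : (F.obj ⟨op i⟩)ᵒᵖ ⥤ Type u) (W : F.obj ⟨op j⟩)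
    (φ : ((coPsh F i).obj G).obj (op ((ι F j).obj W))) : G.obj (op ((invImage F f).obj W)) :=
  φ.app (op _) (hom f (𝟙 _))

lemma ev_bijective {i j : 𝒮} (G : (F.obj ⟨op i⟩)ᵒᵖ ⥤ Type u) (W : F.obj ⟨op j⟩) :
    Function.Bijective (fun φ => (fun f : i ⟶ j => ev F f G W φ)) := by
  refine ⟨fun φ φ' h => ?_, fun s => ?_⟩
  · apply NatTrans.ext
    funext ⟨V⟩
    ext t
    obtain ⟨f, η, rfl⟩ := hom_surjective (R := i) (S := j) (V := V) (U := W) t
    have h1 := NatTrans.naturality_apply φ η.op (hom f (𝟙 _))
    have h2 := NatTrans.naturality_apply φ' η.op (hom f (𝟙 _))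
    have e : (ι F i).map η ≫ hom f (𝟙 _) = hom f η := by rw [ι_comp_hom, Category.comp_id]
    change φ.app (op V) ((ι F i).map η ≫ hom f (𝟙 _)) = _ at h1
    change φ'.app (op V) ((ι F i).map η ≫ hom f (𝟙 _)) = _ at h2
    rw [e] at h1 h2
    refine h1.trans (Eq.trans ?_ h2.symm)
    exact congrArg _ (congrFun h f)
  · refine ⟨{ app := fun V => ↾(fun t => G.map t.fiber.op (s t.base)), naturality := fun V V' k => ?_ }, ?_⟩
    · ext t
      obtain ⟨f, η, rfl⟩ := hom_surjective (R := i) (S := j) (V := V.unop) (U := W) t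
      show G.map (((ι F i).map k.unop) ≫ hom f η).fiber.op (s (((ι F i).map k.unop) ≫ hom f η).base) =
        G.map k (G.map η.op (s f))
      rw [ι_comp_hom]
      show G.map (k.unop ≫ η).op (s f) = _
      rw [op_comp, Functor.map_comp_apply]
      rfl
    · funext f
      show G.map (𝟙 ((invImage F f).obj W)).op (s f) = s f
      simp

lemma ev_map {i j : 𝒮} (f : i ⟶ j) (G : (F.obj ⟨op i⟩)ᵒᵖ ⥤ Type u) {W W' : F.obj ⟨op j⟩} (k : W' ⟶ W)
    (φ : ((coPsh F i).obj G).obj (op ((ι F j).obj W))) :
    ev F f G W' (((coPsh F i).obj G).map ((ι F j).map k).op φ) =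
      G.map ((invImage F f).map k).op (ev F f G W φ) := by
  show φ.app (op _) (hom f (𝟙 _) ≫ (ι F j).map k) = _
  have e : (ι F i).map ((invImage F f).map k) ≫ hom f (𝟙 _) = hom f (𝟙 _) ≫ (ι F j).map k := by
    rw [ι_comp_hom, hom_comp_ι, Category.comp_id, Category.id_comp]
  rw [← e]
  exact NatTrans.naturality_apply φ ((invImage F f).map k).op (hom f (𝟙 _))

variable (J : Topologies F) [∀ S : 𝒮, (ι F S).IsContinuous (J S) (totalTopology F J)]
  [∀ S : 𝒮, (ι F S).IsCocontinuous (J S) (totalTopology F J)]

lemma coPsh_isSheaf (i : 𝒮) (G : Sheaf (J i) (Type u)) :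
    Presheaf.IsSheaf (totalTopology F J) ((coPsh F i).obj G.obj) :=
  (Presheaf.isSheaf_of_iso_iff
    (((ι F i).op.ranAdjunction (Type u)).rightAdjointUniq (coPshAdj F i) |>.app G.obj)).1
    (ran_isSheaf_of_isCocontinuous (ι F i) (totalTopology F J) G)

def co (i : 𝒮) : Sheaf (J i) (Type u) ⥤ TotSh F J (Type u) :=
  ObjectProperty.lift _ (sheafToPresheaf _ _ ⋙ coPsh F i) (coPsh_isSheaf F J i)

noncomputable def coAdj (i : 𝒮) : restr F J (Type u) i ⊣ co F J i :=
  Adjunction.mkOfHomEquiv
    { homEquiv := fun P G =>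
        { toFun := fun φ => ⟨(coPshAdj F i).homEquiv P.obj G.obj φ.hom⟩
          invFun := fun ψ => ⟨((coPshAdj F i).homEquiv P.obj G.obj).symm ψ.hom⟩
          left_inv := fun φ => by
            apply (sheafToPresheaf (J i) (Type u)).map_injective
            exact ((coPshAdj F i).homEquiv P.obj G.obj).symm_apply_apply φ.hom
          right_inv := fun ψ => by
            apply (sheafToPresheaf (totalTopology F J) (Type u)).map_injective
            exact ((coPshAdj F i).homEquiv P.obj G.obj).apply_symm_apply ψ.hom }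
      homEquiv_naturality_left_symm := fun f g => by
        apply (sheafToPresheaf (J i) (Type u)).map_injective
        exact (coPshAdj F i).homEquiv_naturality_left_symm f.hom g.hom
      homEquiv_naturality_right := fun f g => by
        apply (sheafToPresheaf (totalTopology F J) (Type u)).map_injective
        exact (coPshAdj F i).homEquiv_naturality_right f.hom g.hom }

lemma coAdj_counit_hom (i : 𝒮) (G : Sheaf (J i) (Type u)) :
    ((coAdj F J i).counit.app G).hom = ((coPshAdj F i).homEquiv _ G.obj).symm (𝟙 _) := rfl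

/-- the component of the coextension at a morphism of the base -/
def proj {i j : 𝒮} (f : i ⟶ j) [(invImage F f).IsContinuous (J j) (J i)] :
    co F J i ⋙ restr F J (Type u) j ⟶ (invImage F f).sheafPushforwardContinuous (Type u) (J j) (J i) where
  app G := ⟨{ app := fun W => ↾(ev F f G.obj W.unop)
              naturality := fun W W' k => by ext φ; exact ev_map F f G.obj k.unop φ }⟩
  naturality G G' β := rfl

variable [∀ (R S : 𝒮) (f : R ⟶ S), (invImage F f).IsContinuous (J S) (J R)]

noncomputable def projEquiv (i j : 𝒮) (G : Sheaf (J i) (Type u)) (W : (F.obj ⟨op j⟩)ᵒᵖ) :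
    ((co F J i ⋙ restr F J (Type u) j).obj G).obj.obj W ≃
      ∀ f : i ⟶ j, G.obj.obj (op ((invImage F f).obj W.unop)) :=
  Equiv.ofBijective _ (ev_bijective F G.obj W.unop)

noncomputable def isLimitProj (i j : 𝒮) (G : Sheaf (J i) (Type u)) :
    IsLimit (Fan.mk ((co F J i ⋙ restr F J (Type u) j).obj G) fun f : i ⟶ j => (proj F J f).app G) := by
  refine Fan.IsLimit.mk _ (fun s =>
    ⟨{ app := fun W => ↾(fun x => (projEquiv F J i j G W).symm (fun f => (s.proj f).hom.app W x))
       naturality := fun W W' k => ?_ }⟩) (fun s f => ?_) (fun s m hm => ?_)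
  · ext x
    refine (ev_bijective F G.obj W'.unop).1 (funext fun f => ?_)
    refine Eq.trans (congrFun ((projEquiv F J i j G W').apply_symm_apply _) f) ?_
    refine Eq.trans ?_ (ev_map F f G.obj k.unop _).symm
    refine Eq.trans (NatTrans.naturality_apply (s.proj f).hom k x) (congrArg _ ?_)
    exact (congrFun ((projEquiv F J i j G W).apply_symm_apply (fun f => (s.proj f).hom.app W x)) f).symm
  · ext W x
    exact congrFun ((projEquiv F J i j G W).apply_symm_apply _) f
  · ext W x
    refine (Equiv.eq_symm_apply _).2 (funext fun f => ?_)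
    exact ConcreteCategory.congr_hom (NatTrans.congr_app (congrArg InducedCategory.Hom.hom (hm f)) W) x

lemma nonempty_fan (i j : 𝒮) [∀ (P : (F.obj ⟨op i⟩)ᵒᵖ ⥤ Type u), (ι F i).op.HasPointwiseRightKanExtension P]
    (a : Sheaf (J i) (Type u)) :
    ∃ c : Fan fun f : i ⟶ j => ((invImage F f).sheafPushforwardContinuous (Type u) (J j) (J i)).obj a,
      Nonempty (IsLimit c) ∧
        Nonempty (c.pt ≅ (restr F J (Type u) j).obj ((coextend F J (Type u) i).obj a)) :=
  ⟨_, ⟨isLimitProj F J i j a⟩, ⟨(restr F J (Type u) j).mapIso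
    (((coAdj F J i).rightAdjointUniq ((ι F i).sheafAdjunctionCocontinuous (Type u) (J i) (totalTopology F J))).app a)⟩⟩

lemma nonempty_cofan (i j : 𝒮)
    [((ι F i).sheafPushforwardContinuous (Type u) (J i) (totalTopology F J)).IsRightAdjoint]
    [∀ (R S : 𝒮) (f : R ⟶ S), ((invImage F f).sheafPushforwardContinuous (Type u) (J S) (J R)).IsRightAdjoint]
    (a : Sheaf (J i) (Type u)) :
    ∃ c : Cofan fun f : j ⟶ i => ((invImage F f).sheafPullback (Type u) (J i) (J j)).obj a,
      Nonempty (IsColimit c) ∧
        Nonempty (c.pt ≅ (restr F J (Type u) j).obj ((extend F J (Type u) i).obj a)) := by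
  let adj := ((ι F i).sheafAdjunctionContinuous (Type u) (J i) (totalTopology F J)).comp (coAdj F J j)
  let fadj := fun f : j ⟶ i => (invImage F f).sheafAdjunctionContinuous (Type u) (J i) (J j)
  let P := (extend F J (Type u) i ⋙ restr F J (Type u) j).obj a
  let inj := fun f : j ⟶ i => ((fadj f).homEquiv a P).symm (adj.homEquiv a P (𝟙 P) ≫ (proj F J f).app P)
  have key : ∀ {b : Sheaf (J j) (Type u)} (g : P ⟶ b) (f : j ⟶ i),
      inj f ≫ g = ((fadj f).homEquiv a b).symm (adj.homEquiv a b g ≫ (proj F J f).app b) := by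
    intro b g f
    refine ((fadj f).homEquiv_naturality_right_symm _ g).symm.trans (congrArg _ ?_)
    rw [Category.assoc, ← (proj F J f).naturality g, ← Category.assoc, ← adj.homEquiv_naturality_right,
      Category.id_comp]
  refine ⟨Cofan.mk P inj, ⟨Cofan.IsColimit.mk _
    (fun s => (adj.homEquiv a _).symm (Fan.IsLimit.lift (isLimitProj F J j i s.pt)
      (fun f => (fadj f).homEquiv a _ (s.inj f)))) (fun s f => ?_) (fun s m hm => ?_)⟩, ⟨Iso.refl _⟩⟩
  · refine (key _ f).trans ((Equiv.symm_apply_eq _).2 ?_)
    rw [Equiv.apply_symm_apply]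
    exact Fan.IsLimit.fac (isLimitProj F J j i s.pt) _ f
  · refine (Equiv.eq_symm_apply _).2 ?_
    refine Fan.IsLimit.hom_ext (isLimitProj F J j i s.pt) _ _ (fun f => ?_)
    rw [Fan.IsLimit.fac]
    refine ((Equiv.symm_apply_eq _).1 ?_)
    exact (key m f).symm.trans (hm f)

variable {F J}

lemma preservesFiniteLimits_of_restr {A : Type*} [Category A] (H : A ⥤ TotSh F J (Type u))
    (h : ∀ S : 𝒮, PreservesFiniteLimits (H ⋙ restr F J (Type u) S)) : PreservesFiniteLimits H := by
  refine ⟨fun I _ _ => ?_⟩
  haveI : PreservesLimitsOfShape I (H ⋙ sheafToPresheaf (totalTopology F J) (Type u)) := by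
    refine preservesLimitsOfShape_of_evaluation _ _ (fun X => ?_)
    haveI := h X.unop.base
    haveI : PreservesLimitsOfShape I (sheafToPresheaf (J X.unop.base) (Type u)) := inferInstance
    exact preservesLimitsOfShape_of_natIso
      (F := (H ⋙ restr F J (Type u) X.unop.base) ⋙ sheafToPresheaf (J X.unop.base) (Type u) ⋙
        (evaluation _ (Type u)).obj (op X.unop.fiber))
      (NatIso.ofComponents (fun _ => Iso.refl _) (fun _ => rfl))
  exact preservesLimitsOfShape_of_reflects_of_preserves H (sheafToPresheaf _ _)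

variable (F J)

lemma proj_isIso {i j : 𝒮} (f : i ⟶ j) (hf : ∀ g : i ⟶ j, g = f) (G : Sheaf (J i) (Type u)) :
    IsIso ((proj F J f).app G) := by
  haveI : IsIso ((sheafToPresheaf (J j) (Type u)).map ((proj F J f).app G)) := by
    rw [NatTrans.isIso_iff_isIso_app]
    intro W
    refine (isIso_iff_bijective _).2 ⟨fun x y h => (ev_bijective F G.obj W.unop).1 (funext fun g => ?_), fun z => ?_⟩
    · rw [hf g]
      exact h
    · obtain ⟨x, hx⟩ := (ev_bijective F G.obj W.unop).2 (fun g => (hf g).symm ▸ z)
      exact ⟨x, congrFun hx f⟩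
  exact isIso_of_reflects_iso _ (sheafToPresheaf (J j) (Type u))

lemma preservesFiniteLimits_extend (i : 𝒮) (hi : IsTerminal i) (hF : IsFibSite F J)
    [((ι F i).sheafPushforwardContinuous (Type u) (J i) (totalTopology F J)).IsRightAdjoint] :
    PreservesFiniteLimits (extend F J (Type u) i) := by
  refine preservesFiniteLimits_of_restr _ (fun j => ?_)
  let f := hi.from j
  obtain ⟨_, h₂, h₃⟩ := hF f
  haveI : ∀ G, IsIso ((proj F J f).app G) := proj_isIso F J f (fun g => hi.hom_ext g f)
  let adj := (((ι F i).sheafAdjunctionContinuous (Type u) (J i) (totalTopology F J)).comp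
    (coAdj F J j)).ofNatIsoRight (NatIso.ofComponents (fun G => asIso ((proj F J f).app G))
      (fun {G G'} β => (proj F J f).naturality β))
  exact preservesFiniteLimits_of_natIso
    (((invImage F f).sheafAdjunctionContinuous (Type u) (J i) (J j)).leftAdjointUniq adj)

lemma extend_fullyFaithful (i : 𝒮) (hi : IsTerminal i)
    [((ι F i).sheafPushforwardContinuous (Type u) (J i) (totalTopology F J)).IsRightAdjoint] :
    Nonempty (extend F J (Type u) i).FullyFaithful := by
  haveI : IsIso (coAdj F J i).counit := by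
    haveI : ∀ G, IsIso ((coAdj F J i).counit.app G) := by
      intro G
      have heq : (sheafToPresheaf (J i) (Type u)).map ((coAdj F J i).counit.app G) =
          (coPshAdj F i).counit.app G.obj :=
        (coAdj_counit_hom F J i G).trans ((coPshAdj F i).homEquiv_symm_id G.obj)
      haveI : IsIso ((sheafToPresheaf (J i) (Type u)).map ((coAdj F J i).counit.app G)) := by
        rw [heq, NatTrans.isIso_iff_isIso_app]
        rintro ⟨W⟩
        let m : W ⟶ (invImage F (𝟙 i)).obj W := (F.mapId ⟨op i⟩).inv.toNatTrans.app W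
        have hval : ∀ φ : ((coPsh F i).obj G.obj).obj (op ((ι F i).obj W)),
            ((coPshAdj F i).counit.app G.obj).app (op W) φ = G.obj.map m.op (ev F (𝟙 i) G.obj W φ) := by
          intro φ
          have h1 := NatTrans.naturality_apply φ m.op (hom (𝟙 i) (𝟙 _))
          have e : (ι F i).map m ≫ hom (𝟙 i) (𝟙 _) = 𝟙 ((ι F i).obj W) := by
            rw [ι_comp_hom, Category.comp_id]
            rfl
          change φ.app (op W) ((ι F i).map m ≫ hom (𝟙 i) (𝟙 _)) = _ at h1
          rw [e] at h1
          exact h1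
        haveI : IsIso m := inferInstanceAs (IsIso (((Cat.Hom.toNatIso (F.mapId ⟨op i⟩)).app W).inv))
        have hG : Function.Bijective (G.obj.map m.op) := (isIso_iff_bijective _).1 inferInstance
        refine (isIso_iff_bijective _).2 ⟨fun x y h => ?_, fun z => ?_⟩
        · replace h := (hval x).symm.trans (h.trans (hval y))
          exact (ev_bijective F G.obj W).1 (funext fun g => by rw [hi.hom_ext g (𝟙 i)]; exact hG.1 h)
        · obtain ⟨z', hz⟩ := hG.2 z
          obtain ⟨x, hx⟩ := (ev_bijective F G.obj W).2 (fun g => (hi.hom_ext (𝟙 i) g) ▸ z')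
          exact ⟨x, (hval x).trans ((congrArg _ (congrFun hx (𝟙 i))).trans hz)⟩
      exact isIso_of_reflects_iso _ (sheafToPresheaf (J i) (Type u))
    exact NatIso.isIso_of_isIso_app _
  let t : Adjunction.Triple (extend F J (Type u) i) (restr F J (Type u) i) (co F J i) :=
    ⟨(ι F i).sheafAdjunctionContinuous (Type u) (J i) (totalTopology F J), coAdj F J i⟩
  exact ⟨t.fullyFaithfulEquiv.symm (coAdj F J i).fullyFaithfulROfIsIsoCounit⟩

end Groth.Agent.FibTop
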