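import Groth.Agent.FibTop.Map
import Mathlib.CategoryTheory.Extensive
import Mathlib.CategoryTheory.Sites.LeftExact
import Mathlib.CategoryTheory.Limits.Constructions.LimitsOfProductsAndEqualizers

/-! # A cartesian morphism of total sites is fibrewise a morphism of sites -/

set_option autoImplicit false
set_option linter.all false
set_option backward.isDefEq.respectTransparency false
set_option backward.isDefEq.respectTransparency.types false
set_option backward.defeqAttrib.useBackward true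

universe u

open CategoryTheory Opposite Pseudofunctor.CoGrothendieck Limits
open scoped CategoryTheory.Pseudofunctor.StrongTrans
open FibSite

namespace Groth.Agent.FibTop

section abstract

variable {E : Type*} [Category E]

lemma isPullback_of_retract {P X Y Z P' X' Y' Z' : E} {fst : P ⟶ X} {snd : P ⟶ Y} {f : X ⟶ Z} {g : Y ⟶ Z}
    {fst' : P' ⟶ X'} {snd' : P' ⟶ Y'} {f' : X' ⟶ Z'} {g' : Y' ⟶ Z'}
    (h : IsPullback fst' snd' f' g') (w : fst ≫ f = snd ≫ g)
    (iP : P ⟶ P') (iX : X ⟶ X') (iY : Y ⟶ Y') (iZ : Z ⟶ Z') (rP : P' ⟶ P) (rX : X' ⟶ X) (rY : Y' ⟶ Y)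
    (hP : iP ≫ rP = 𝟙 P) (hX : iX ≫ rX = 𝟙 X) (hY : iY ≫ rY = 𝟙 Y)
    (h₁ : iP ≫ fst' = fst ≫ iX) (h₂ : iP ≫ snd' = snd ≫ iY) (h₃ : iX ≫ f' = f ≫ iZ) (h₄ : iY ≫ g' = g ≫ iZ)
    (k₁ : rP ≫ fst = fst' ≫ rX) (k₂ : rP ≫ snd = snd' ≫ rY) : IsPullback fst snd f g := by
  refine IsPullback.mk' w (fun T a b ha hb => ?_) (fun T a b hab => ?_)
  · have : a ≫ iP = b ≫ iP := h.hom_ext (by rw [Category.assoc, Category.assoc, h₁, reassoc_of% ha])
      (by rw [Category.assoc, Category.assoc, h₂, reassoc_of% hb])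
    rw [← Category.comp_id a, ← Category.comp_id b, ← hP, reassoc_of% this]
  · refine ⟨h.lift (a ≫ iX) (b ≫ iY) (by rw [Category.assoc, Category.assoc, h₃, h₄, reassoc_of% hab]) ≫ rP, ?_, ?_⟩
    · rw [Category.assoc, k₁, h.lift_fst_assoc, Category.assoc, hX, Category.comp_id]
    · rw [Category.assoc, k₂, h.lift_snd_assoc, Category.assoc, hY, Category.comp_id]

lemma isPullback_inl_of_vk [FinitaryExtensive E] {X Z O O' : E} (f : X ⟶ Z) (o : O ⟶ O')
    {cX : BinaryCofan X O} (hX : IsColimit cX) {cZ : BinaryCofan Z O'} (hZ : IsColimit cZ) (m : cX.pt ⟶ cZ.pt)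
    (hl : cX.inl ≫ m = f ≫ cZ.inl) (hr : cX.inr ≫ m = o ≫ cZ.inr) :
    IsPullback cX.inl f m cZ.inl ∧ IsPullback cX.inr o m cZ.inr :=
  ((BinaryCofan.isVanKampen_iff cZ).1 (FinitaryExtensive.vanKampen cZ hZ) cX f o m hl.symm hr.symm).1 ⟨hX⟩

/-- adding a point to a cartesian square gives a cartesian square -/
lemma isPullback_coprod_map [FinitaryExtensive E] [HasPullbacks E] {P X Y Z O : E} {fst : P ⟶ X} {snd : P ⟶ Y}
    {f : X ⟶ Z} {g : Y ⟶ Z} (h : IsPullback fst snd f g) :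
    IsPullback (coprod.map fst (𝟙 O)) (coprod.map snd (𝟙 O)) (coprod.map f (𝟙 O)) (coprod.map g (𝟙 O)) := by
  have sq : ∀ {A B : E} (k : A ⟶ B), IsPullback (coprod.inl : A ⟶ A ⨿ O) k (coprod.map k (𝟙 O)) coprod.inl ∧
      IsPullback (coprod.inr : O ⟶ A ⨿ O) (𝟙 O) (coprod.map k (𝟙 O)) coprod.inr := fun k =>
    isPullback_inl_of_vk k (𝟙 O) (coprodIsCoprod _ _) (coprodIsCoprod _ _) (coprod.map k (𝟙 O))
      (coprod.inl_map _ _) (coprod.inr_map _ _)
  let Q := pullback (coprod.map f (𝟙 O)) (coprod.map g (𝟙 O))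
  let l : P ⨿ O ⟶ Q := pullback.lift (coprod.map fst (𝟙 O)) (coprod.map snd (𝟙 O)) (by simp [h.w])
  have hl : IsIso l := by
    have hpl : IsPullback fst (snd ≫ coprod.inl) (f ≫ coprod.inl) (coprod.map g (𝟙 O)) :=
      h.paste_vert (sq g).1.flip
    have hpr : IsPullback (𝟙 O) (coprod.inr : O ⟶ Y ⨿ O) coprod.inr (coprod.map g (𝟙 O)) := (sq g).2.flip
    have e1 : (coprod.inl ≫ l) ≫ pullback.fst _ _ = fst ≫ coprod.inl := by simp [l]
    have e2 : (coprod.inr ≫ l) ≫ pullback.fst _ _ = 𝟙 O ≫ coprod.inr := by simp [l]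
    have h1 : IsPullback (coprod.inl ≫ l) fst (pullback.fst _ _) (coprod.inl : X ⟶ X ⨿ O) :=
      IsPullback.of_right (by
        have e : (coprod.inl ≫ l) ≫ pullback.snd _ _ = snd ≫ coprod.inl := by simp [l]
        rw [e, coprod.inl_map]; exact hpl.flip) e1 (IsPullback.of_hasPullback _ _).flip
    have h2 : IsPullback (coprod.inr ≫ l) (𝟙 O) (pullback.fst _ _) (coprod.inr : O ⟶ X ⨿ O) :=
      IsPullback.of_right (by
        have e : (coprod.inr ≫ l) ≫ pullback.snd _ _ = coprod.inr := by simp [l]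
        rw [e, coprod.inr_map, Category.id_comp]; exact hpr.flip) e2 (IsPullback.of_hasPullback _ _).flip
    obtain ⟨hc⟩ := ((BinaryCofan.isVanKampen_iff _).1 (FinitaryExtensive.vanKampen _ (coprodIsCoprod X O))
      (BinaryCofan.mk (coprod.inl ≫ l) (coprod.inr ≫ l)) fst (𝟙 O) (pullback.fst _ _) e1.symm e2.symm).2 ⟨h1, h2⟩
    have : l = ((coprodIsCoprod P O).coconePointUniqueUpToIso hc).hom := by
      apply coprod.hom_ext
      · exact ((coprodIsCoprod P O).comp_coconePointUniqueUpToIso_hom hc ⟨WalkingPair.left⟩).symm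
      · exact ((coprodIsCoprod P O).comp_coconePointUniqueUpToIso_hom hc ⟨WalkingPair.right⟩).symm
    rw [this]
    infer_instance
  exact (IsPullback.of_hasPullback (coprod.map f (𝟙 O)) (coprod.map g (𝟙 O))).of_iso (asIso l).symm (Iso.refl _)
    (Iso.refl _) (Iso.refl _) (by simp [l, IsIso.inv_comp_eq]) (by simp [l, IsIso.inv_comp_eq]) (by simp) (by simp)

lemma preservesPullbacks_of_pointed {E' : Type*} [Category E'] [FinitaryExtensive E] [HasPullbacks E]
    [FinitaryExtensive E'] [HasTerminal E] (Φ : E ⥤ E') [PreservesColimitsOfShape (Discrete WalkingPair) Φ]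
    (hp : ∀ {P X Y Z : E} {fst : P ⟶ X} {snd : P ⟶ Y} {f : X ⟶ Z} {g : Y ⟶ Z}, IsPullback fst snd f g →
      ∀ (pX : ⊤_ E ⟶ X) (pY : ⊤_ E ⟶ Y), pX ≫ f = pY ≫ g →
      IsPullback (Φ.map fst) (Φ.map snd) (Φ.map f) (Φ.map g)) :
    PreservesLimitsOfShape WalkingCospan Φ := by
  have key : ∀ {P X Y Z : E} {fst : P ⟶ X} {snd : P ⟶ Y} {f : X ⟶ Z} {g : Y ⟶ Z}, IsPullback fst snd f g →
      IsPullback (Φ.map fst) (Φ.map snd) (Φ.map f) (Φ.map g) := by
    intro P X Y Z fst snd f g h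
    have e : ∀ {A B : E} (k : A ⟶ B), Φ.map (coprod.inl : A ⟶ A ⨿ ⊤_ E) ≫ Φ.map (coprod.map k (𝟙 (⊤_ E))) =
        Φ.map k ≫ Φ.map coprod.inl := fun k => by rw [← Φ.map_comp, ← Φ.map_comp, coprod.inl_map]
    have e' : ∀ {A B : E} (k : A ⟶ B), Φ.map (coprod.inr : ⊤_ E ⟶ A ⨿ ⊤_ E) ≫ Φ.map (coprod.map k (𝟙 (⊤_ E))) =
        𝟙 (Φ.obj (⊤_ E)) ≫ Φ.map coprod.inr := fun k => by
      rw [← Φ.map_comp, coprod.inr_map, Category.id_comp, Category.id_comp]
    have sq : ∀ {A B : E} (k : A ⟶ B), IsPullback (Φ.map (coprod.inl : A ⟶ A ⨿ ⊤_ E)) (Φ.map k)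
        (Φ.map (coprod.map k (𝟙 (⊤_ E)))) (Φ.map coprod.inl) := fun {A B} k =>
      (isPullback_inl_of_vk (Φ.map k) (𝟙 (Φ.obj (⊤_ E)))
        (cX := BinaryCofan.mk (Φ.map (coprod.inl : A ⟶ A ⨿ ⊤_ E)) (Φ.map (coprod.inr : ⊤_ E ⟶ A ⨿ ⊤_ E)))
        (isColimitOfHasBinaryCoproductOfPreservesColimit Φ A (⊤_ E))
        (cZ := BinaryCofan.mk (Φ.map (coprod.inl : B ⟶ B ⨿ ⊤_ E)) (Φ.map (coprod.inr : ⊤_ E ⟶ B ⨿ ⊤_ E)))
        (isColimitOfHasBinaryCoproductOfPreservesColimit Φ B (⊤_ E))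
        (Φ.map (coprod.map k (𝟙 (⊤_ E))))
        (e k) (e' k)).1
    have big := hp (isPullback_coprod_map (O := ⊤_ E) h) coprod.inr coprod.inr (by simp)
    have outer : IsPullback (Φ.map fst ≫ Φ.map (coprod.inl : X ⟶ X ⨿ ⊤_ E)) (Φ.map snd)
        (Φ.map (coprod.map f (𝟙 (⊤_ E)))) (Φ.map g ≫ Φ.map coprod.inl) := by
      have h' := (sq snd).paste_horiz big
      rw [e fst, e g] at h'
      exact h'
    exact outer.of_right (by rw [← Φ.map_comp, ← Φ.map_comp, h.w]) (sq f)
  constructor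
  intro K
  haveI : ∀ {X Y Z : E} (f : X ⟶ Z) (g : Y ⟶ Z), PreservesLimit (cospan f g) Φ := fun f g =>
    preservesLimit_of_preserves_limit_cone (IsPullback.of_hasPullback f g).isLimit
      ((isLimitMapConePullbackConeEquiv Φ (pullback.condition (f := f) (g := g))).symm
        (key (IsPullback.of_hasPullback f g)).isLimit)
  exact preservesLimit_of_iso_diagram Φ (diagramIsoCospan K).symm

end abstract

section pointed

variable {𝒮 : Type u} [SmallCategory 𝒮] (F : Pseudofunctor (LocallyDiscrete 𝒮ᵒᵖ) Cat.{u, u})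

/-- the section of the counit given by a global section -/
noncomputable def sect {i : 𝒮} (X : (F.obj ⟨op i⟩)ᵒᵖ ⥤ Type u) (s : ∀ V, X.obj V)
    (hs : ∀ {V V'} (k : V ⟶ V'), X.map k (s V) = s V') : X ⟶ (ι F i).op ⋙ (coPsh F i).obj X := by
  classical
  let val : ∀ (W : F.obj ⟨op i⟩), X.obj (op W) → ∀ f : i ⟶ i, X.obj (op ((invImage F f).obj W)) :=
    fun W x f => if h : f = 𝟙 i then h ▸ X.map ((F.mapId ⟨op i⟩).hom.toNatTrans.app W).op x else s _
  exact
    { app := fun V => ↾(fun x => (Equiv.ofBijective _ (ev_bijective F X V.unop)).symm (val V.unop x))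
      naturality := fun V V' k => by
        ext x
        refine (ev_bijective F X V'.unop).1 (funext fun f => ?_)
        have h1 : ∀ (W : F.obj ⟨op i⟩) (y : X.obj (op W)),
            ev F f X W ((Equiv.ofBijective _ (ev_bijective F X W)).symm (val W y)) = val W y f := fun W y =>
          congrFun ((Equiv.ofBijective _ (ev_bijective F X W)).apply_symm_apply (val W y)) f
        refine (h1 V'.unop _).trans (Eq.trans ?_ (ev_map F f X k.unop _).symm)
        refine Eq.trans ?_ (congrArg _ (h1 V.unop x).symm)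
        by_cases h : f = 𝟙 i
        · subst h
          simp only [val, dif_pos rfl]
          show X.map _ (X.map k x) = X.map _ (X.map _ x)
          rw [← Functor.map_comp_apply, ← Functor.map_comp_apply, show k = k.unop.op from rfl, ← op_comp, ← op_comp]
          congr 3
          exact congrArg Quiver.Hom.op ((F.mapId ⟨op i⟩).hom.toNatTrans.naturality k.unop).symm
        · simp only [val, dif_neg h]
          exact (hs _).symm }

lemma ev_sect {i : 𝒮} (X : (F.obj ⟨op i⟩)ᵒᵖ ⥤ Type u) (s : ∀ V, X.obj V)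
    (hs : ∀ {V V'} (k : V ⟶ V'), X.map k (s V) = s V') (W : F.obj ⟨op i⟩) (x : X.obj (op W)) (f : i ⟶ i) :
    (f = 𝟙 i → HEq (ev F f X W ((sect F X s hs).app (op W) x)) (X.map ((F.mapId ⟨op i⟩).hom.toNatTrans.app W).op x)) ∧
    (f ≠ 𝟙 i → ev F f X W ((sect F X s hs).app (op W) x) = s _) := by
  classical
  have h1 := congrFun ((Equiv.ofBijective _ (ev_bijective F X W)).apply_symm_apply
    (fun f : i ⟶ i => if h : f = 𝟙 i then h ▸ X.map ((F.mapId ⟨op i⟩).hom.toNatTrans.app W).op x else s _)) f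
  refine ⟨fun h => ?_, fun h => h1.trans (dif_neg h)⟩
  subst h
  exact heq_of_eq (h1.trans (dif_pos rfl))

lemma sect_counit {i : 𝒮} (X : (F.obj ⟨op i⟩)ᵒᵖ ⥤ Type u) (s : ∀ V, X.obj V)
    (hs : ∀ {V V'} (k : V ⟶ V'), X.map k (s V) = s V') :
    sect F X s hs ≫ (coPshAdj F i).counit.app X = 𝟙 X := by
  ext ⟨W⟩ x
  let φ := (sect F X s hs).app (op W) x
  let m : W ⟶ (invImage F (𝟙 i)).obj W := (F.mapId ⟨op i⟩).inv.toNatTrans.app W
  show φ.app (op W) (𝟙 ((ι F i).obj W)) = x
  have h1 := coPsh_app_natural F X φ m.op (hom (𝟙 i) (𝟙 _))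
  have e : (ι F i).map m ≫ hom (𝟙 i) (𝟙 _) = 𝟙 ((ι F i).obj W) := by
    rw [ι_comp_hom, Category.comp_id]
    rfl
  change φ.app (op W) ((ι F i).map m ≫ hom (𝟙 i) (𝟙 _)) = _ at h1
  rw [e] at h1
  refine h1.trans ((congrArg (X.map m.op) (eq_of_heq ((ev_sect F X s hs W x (𝟙 i)).1 rfl))).trans ?_)
  refine (Functor.map_comp_apply X _ _ x).symm.trans ?_
  rw [← op_comp]
  simp [m, ← Cat.Hom₂.comp_app]

lemma sect_naturality {i : 𝒮} {X X' : (F.obj ⟨op i⟩)ᵒᵖ ⥤ Type u} (φ : X ⟶ X') (s : ∀ V, X.obj V)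
    (hs : ∀ {V V'} (k : V ⟶ V'), X.map k (s V) = s V') (s' : ∀ V, X'.obj V)
    (hs' : ∀ {V V'} (k : V ⟶ V'), X'.map k (s' V) = s' V') (h : ∀ V, φ.app V (s V) = s' V) :
    φ ≫ sect F X' s' hs' = sect F X s hs ≫ Functor.whiskerLeft (ι F i).op ((coPsh F i).map φ) := by
  ext ⟨W⟩ x
  refine (ev_bijective F X' W).1 (funext fun f => ?_)
  show ev F f X' W ((sect F X' s' hs').app (op W) (φ.app (op W) x)) = φ.app _ (ev F f X W ((sect F X s hs).app (op W) x))
  by_cases hf : f = 𝟙 i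
  · subst hf
    rw [eq_of_heq ((ev_sect F X s hs W x (𝟙 i)).1 rfl), eq_of_heq ((ev_sect F X' s' hs' W _ (𝟙 i)).1 rfl)]
    exact (NatTrans.naturality_apply φ _ x).symm
  · rw [(ev_sect F X s hs W x f).2 hf, (ev_sect F X' s' hs' W _ f).2 hf, h]

end pointed


end Groth.Agent.FibTop

namespace Groth.Agent.FibTop

section fibre

variable {𝒮 : Type u} [SmallCategory 𝒮] {F G : Pseudofunctor (LocallyDiscrete 𝒮ᵒᵖ) Cat.{u, u}} (α : G ⟶ F)
  {J : Topologies F} {K : Topologies G}

lemma factor_of_ι_eq {S : 𝒮} {U V Z : F.obj ⟨op S⟩} (r : Z ⟶ U) (k : V ⟶ U) (h : (ι F S).obj V ⟶ (ι F S).obj Z)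
    (he : (ι F S).map k = h ≫ (ι F S).map r) : ∃ φ : V ⟶ Z, φ ≫ r = k := by
  have hb : (h ≫ (ι F S).map r).base = 𝟙 S := by rw [← he]; rfl
  obtain ⟨b, φ, rfl⟩ := hom_surjective (R := S) (S := S) (V := V) (U := Z) h
  obtain rfl : b = 𝟙 S := (Category.comp_id b).symm.trans hb
  refine ⟨φ ≫ (F.mapId ⟨op S⟩).hom.toNatTrans.app Z, ?_⟩
  rw [hom_comp_ι, ι_map_eq_hom] at he
  have := congrArg (· ≫ (F.mapId ⟨op S⟩).hom.toNatTrans.app U) (hom_injective he)
  simp [← Cat.Hom₂.comp_app] at this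
  rw [Category.assoc, this]

lemma app_functorPushforward_mem (hF : IsPreFibSite F J)
    [(map α).IsContinuous (totalTopology G K) (totalTopology F J)] (S : 𝒮) {W : G.obj ⟨op S⟩} {R : Sieve W}
    (hR : R ∈ K S W) : R.functorPushforward (α.app ⟨op S⟩).toFunctor ∈ J S ((α.app ⟨op S⟩).toFunctor.obj W) := by
  obtain ⟨Q, hQ, hle⟩ := (mem_total_iff hF _ _).1
    (functorPushforward_mem (totalTopology G K) (totalTopology F J) (map α) (functorPushforward_mem_totalTopology hR))
  refine (J S).superset_covering ?_ hQ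
  intro V k hk
  obtain ⟨Z, g, h, ⟨Z', r, h', hr, hg⟩, he⟩ := hle _ (Sieve.image_mem_functorPushforward (ι F S) Q hk)
  rw [hg, (map α).map_comp, map_ι] at he
  obtain ⟨φ, hφ⟩ := factor_of_ι_eq (V := V) ((α.app ⟨op S⟩).toFunctor.map r) k (h ≫ (map α).map h')
    (he.trans (Category.assoc _ _ _).symm)
  exact ⟨Z', r, φ, hr, hφ.symm⟩

lemma exists_point {C : Type u} [SmallCategory C] {T : GrothendieckTopology C} {X : Sheaf T (Type u)}
    (p : ⊤_ (Sheaf T (Type u)) ⟶ X) :
    ∃ e : (Functor.const Cᵒᵖ).obj PUnit.{u + 1} ⟶ X.obj, ∀ (q : (Functor.const Cᵒᵖ).obj PUnit.{u + 1} ⟶ (⊤_ (Sheaf T (Type u))).obj),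
      q ≫ p.hom = e := by
  have hT : IsTerminal (⊤_ (Sheaf T (Type u))).obj := IsTerminal.isTerminalObj (sheafToPresheaf T (Type u)) _ terminalIsTerminal
  exact ⟨hT.from _ ≫ p.hom, fun q => by rw [hT.hom_ext q (hT.from _)]⟩

noncomputable def pointVal {C : Type u} [SmallCategory C] {T : GrothendieckTopology C} {X : Sheaf T (Type u)}
    (p : ⊤_ (Sheaf T (Type u)) ⟶ X) (V : Cᵒᵖ) : X.obj.obj V :=
  (exists_point p).choose.app V PUnit.unit

lemma pointVal_map {C : Type u} [SmallCategory C] {T : GrothendieckTopology C} {X : Sheaf T (Type u)}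
    (p : ⊤_ (Sheaf T (Type u)) ⟶ X) {V V' : Cᵒᵖ} (k : V ⟶ V') : X.obj.map k (pointVal p V) = pointVal p V' :=
  (NatTrans.naturality_apply (exists_point p).choose k PUnit.unit).symm

lemma pointVal_comp {C : Type u} [SmallCategory C] {T : GrothendieckTopology C} {X Y : Sheaf T (Type u)}
    (p : ⊤_ (Sheaf T (Type u)) ⟶ X) (f : X ⟶ Y) (V : Cᵒᵖ) : f.hom.app V (pointVal p V) = pointVal (p ≫ f) V := by
  have hT : IsTerminal (⊤_ (Sheaf T (Type u))).obj := IsTerminal.isTerminalObj (sheafToPresheaf T (Type u)) _ terminalIsTerminal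
  have h₁ := (exists_point p).choose_spec (hT.from _)
  have h₂ := (exists_point (p ≫ f)).choose_spec (hT.from _)
  show f.hom.app V ((exists_point p).choose.app V PUnit.unit) = (exists_point (p ≫ f)).choose.app V PUnit.unit
  rw [← h₁, ← h₂]
  rfl

variable [∀ S : 𝒮, (ι F S).IsContinuous (J S) (totalTopology F J)]
  [∀ S : 𝒮, (ι F S).IsCocontinuous (J S) (totalTopology F J)]
  [∀ S : 𝒮, (ι G S).IsContinuous (K S) (totalTopology G K)]
  [∀ S : 𝒮, (ι G S).IsCocontinuous (K S) (totalTopology G K)]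
  [(map α).IsContinuous (totalTopology G K) (totalTopology F J)]

lemma app_isContinuous (hF : IsPreFibSite F J) (S : 𝒮) : (α.app ⟨op S⟩).toFunctor.IsContinuous (K S) (J S) := by
  refine ⟨fun b => ?_⟩
  let a := (α.app ⟨op S⟩).toFunctor
  let b' : Sheaf (J S) (Type u) := b ⨿ ⊤_ _
  let p : ⊤_ (Sheaf (J S) (Type u)) ⟶ b' := coprod.inr
  let inc : b ⟶ b' := coprod.inl
  haveI : Mono inc := inferInstanceAs (Mono (coprod.inl : b ⟶ b ⨿ ⊤_ _))
  let i₀ := sect F b'.obj (pointVal p) (fun k => pointVal_map p k)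
  let r₀ := (coPshAdj F S).counit.app b'.obj
  have hret : i₀ ≫ r₀ = 𝟙 _ := sect_counit F b'.obj _ _
  have hQ : Presieve.IsSheaf (K S) (a.op ⋙ (ι F S).op ⋙ (coPsh F S).obj b'.obj) := by
    have h0 := Functor.op_comp_isSheaf_of_isSheaf_type (F := ι G S) (J := K S)
      (Functor.op_comp_isSheaf_of_isSheaf_type (F := map α) (J := totalTopology G K) (K := totalTopology F J)
        ((isSheaf_iff_isSheaf_of_type _ _).1 (coPsh_isSheaf F J S b')))
    exact Presieve.isSheaf_iso _ (Functor.isoWhiskerRight (NatIso.op (ιCompMapIso α S)) ((coPsh F S).obj b'.obj)) h0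
  intro W R hR
  have hb' : Presieve.IsSheafFor (a.op ⋙ b'.obj) R.arrows := by
    intro x hx
    obtain ⟨t, ht, -⟩ := hQ R hR (fun V g hg => i₀.app (op (a.obj V)) (x g hg)) (fun V₁ V₂ Z g₁ g₂ f₁ f₂ h₁ h₂ e => by
      refine (NatTrans.naturality_apply i₀ (a.map g₁).op _).symm.trans ?_
      refine Eq.trans (congrArg _ (hx g₁ g₂ h₁ h₂ e)) ?_
      exact NatTrans.naturality_apply i₀ (a.map g₂).op _)
    have hr : ∀ {V : (F.obj ⟨op S⟩)ᵒᵖ} (z : b'.obj.obj V), r₀.app V (i₀.app V z) = z := fun {V} z =>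
      ConcreteCategory.congr_hom (NatTrans.congr_app hret V) z
    refine ⟨r₀.app (op (a.obj W)) t, fun V g hg => ?_, fun t' ht' => ?_⟩
    · refine (NatTrans.naturality_apply r₀ (a.map g).op t).symm.trans ?_
      exact (congrArg _ (ht g hg)).trans (hr _)
    · have : i₀.app (op (a.obj W)) t' = t := (hQ R hR).isSeparatedFor.ext (fun V g hg => by
        refine (NatTrans.naturality_apply i₀ (a.map g).op t').symm.trans ?_
        exact (congrArg _ (ht' g hg)).trans (ht g hg).symm)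
      rw [← this, hr]
  have hinj : ∀ (V : (F.obj ⟨op S⟩)ᵒᵖ), Function.Injective (inc.hom.app V) := fun V =>
    (mono_iff_injective _).1 (inferInstanceAs (Mono (inc.hom.app V)))
  intro x hx
  obtain ⟨t, ht, -⟩ := hb' (fun V g hg => inc.hom.app (op (a.obj V)) (x g hg)) (fun V₁ V₂ Z g₁ g₂ f₁ f₂ h₁ h₂ e => by
    refine (NatTrans.naturality_apply inc.hom (a.map g₁).op _).symm.trans ?_
    exact Eq.trans (congrArg _ (hx g₁ g₂ h₁ h₂ e)) (NatTrans.naturality_apply inc.hom (a.map g₂).op _))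
  let c := Presheaf.imageSieve inc.hom (show ToType (b'.obj.obj (op (a.obj W))) from t)
  have hc : c ∈ J S (a.obj W) := by
    refine (J S).superset_covering ?_ (app_functorPushforward_mem α hF S hR)
    rintro V k ⟨Z, g, h, hg, rfl⟩
    refine c.downward_closed ?_ h
    exact ⟨x g hg, (ht g hg).symm⟩
  let y : Presieve.FamilyOfElements b.obj c.arrows := fun V k hk => hk.choose
  have hy : y.Compatible := fun V₁ V₂ Z g₁ g₂ f₁ f₂ h₁ h₂ e => hinj _ (by
    rw [NatTrans.naturality_apply, NatTrans.naturality_apply, h₁.choose_spec, h₂.choose_spec,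
      ← Functor.map_comp_apply, ← Functor.map_comp_apply, ← op_comp, ← op_comp, e])
  have hbs : Presieve.IsSheaf (J S) b.obj := (isSheaf_iff_isSheaf_of_type _ _).1 b.property
  have hb's : Presieve.IsSheaf (J S) b'.obj := (isSheaf_iff_isSheaf_of_type _ _).1 b'.property
  let z := (hbs c hc).amalgamate y hy
  have hz : inc.hom.app _ z = t := (hb's c hc).isSeparatedFor.ext (fun V k hk => by
    rw [← NatTrans.naturality_apply, (hbs c hc).valid_glue hy k hk]
    exact hk.choose_spec)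
  refine ⟨z, fun V g hg => hinj _ ?_, fun z' hz' => hinj _ ?_⟩
  · refine (NatTrans.naturality_apply inc.hom (a.map g).op z).trans ?_
    rw [hz]
    exact ht g hg
  · refine Eq.trans ?_ hz.symm
    refine hb'.isSeparatedFor.ext (fun V g hg => ?_)
    refine (NatTrans.naturality_apply inc.hom (a.map g).op z').symm.trans ?_
    exact (congrArg _ (hz' g hg)).trans (ht g hg).symm

set_option synthInstance.maxHeartbeats 200000 in
lemma app_preservesFiniteLimits [∀ (R S : 𝒮) (f : R ⟶ S), (invImage F f).IsContinuous (J S) (J R)]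
    [((map α).sheafPushforwardContinuous (Type u) (totalTopology G K) (totalTopology F J)).IsRightAdjoint]
    [PreservesFiniteLimits ((map α).sheafPullback (Type u) (totalTopology G K) (totalTopology F J))]
    (S : 𝒮) [(α.app ⟨op S⟩).toFunctor.IsContinuous (K S) (J S)] :
    PreservesFiniteLimits ((α.app ⟨op S⟩).toFunctor.sheafPullback (Type u) (K S) (J S)) := by
  let Φ := (α.app ⟨op S⟩).toFunctor.sheafPullback (Type u) (K S) (J S)
  let adjL := (((map α).sheafAdjunctionContinuous (Type u) (totalTopology G K) (totalTopology F J)).comp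
    (coAdj F J S)).ofNatIsoRight (baseChangeIso α J K S)
  let adjR := (coAdj G K S).comp
    ((α.app ⟨op S⟩).toFunctor.sheafAdjunctionContinuous (Type u) (K S) (J S))
  haveI hH : PreservesFiniteLimits (restr G K (Type u) S ⋙ Φ) := by
    haveI : PreservesFiniteLimits (restr F J (Type u) S) := by
      haveI : PreservesLimitsOfSize.{0, 0} (restr F J (Type u) S) :=
        ((ι F S).sheafAdjunctionContinuous (Type u) (J S) (totalTopology F J)).rightAdjoint_preservesLimits
      infer_instance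
    haveI : PreservesFiniteLimits ((map α).sheafPullback (Type u) (totalTopology G K) (totalTopology F J) ⋙
        restr F J (Type u) S) := comp_preservesFiniteLimits _ _
    exact preservesFiniteLimits_of_natIso (adjR.leftAdjointUniq adjL).symm
  haveI : PreservesLimitsOfSize.{0, 0} (restr G K (Type u) S) :=
    ((ι G S).sheafAdjunctionContinuous (Type u) (K S) (totalTopology G K)).rightAdjoint_preservesLimits
  haveI : PreservesLimitsOfSize.{0, 0} (co G K S) := (coAdj G K S).rightAdjoint_preservesLimits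
  haveI : PreservesColimitsOfSize.{0, 0} Φ :=
    ((α.app ⟨op S⟩).toFunctor.sheafAdjunctionContinuous (Type u) (K S) (J S)).leftAdjoint_preservesColimits
  haveI : PreservesLimitsOfShape (Discrete PEmpty.{1}) (restr G K (Type u) S ⋙ Φ) := hH.preservesFiniteLimits _
  haveI : PreservesLimitsOfShape (Discrete PEmpty.{1}) (restr G K (Type u) S) := inferInstance
  haveI : PreservesLimit (Functor.empty.{0} (TotSh G K (Type u))) (restr G K (Type u) S ⋙ Φ) :=
    PreservesLimitsOfShape.preservesLimit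
  haveI : PreservesLimit (Functor.empty.{0} (TotSh G K (Type u))) (restr G K (Type u) S) :=
    PreservesLimitsOfShape.preservesLimit
  haveI : PreservesLimitsOfShape WalkingCospan (restr G K (Type u) S ⋙ Φ) := hH.preservesFiniteLimits _
  haveI : PreservesLimit (Functor.empty.{0} (Sheaf (K S) (Type u))) Φ :=
    preservesTerminal_of_iso Φ (Φ.mapIso (PreservesTerminal.iso (restr G K (Type u) S)).symm ≪≫
      PreservesTerminal.iso (restr G K (Type u) S ⋙ Φ))
  haveI : PreservesLimitsOfShape (Discrete PEmpty.{1}) Φ := preservesLimitsOfShape_pempty_of_preservesTerminal Φ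
  haveI : PreservesLimitsOfShape WalkingCospan Φ := by
    refine preservesPullbacks_of_pointed Φ (fun {P X Y Z fst snd f g} h pX pY hp => ?_)
    let i : ∀ {W : Sheaf (K S) (Type u)} (p : ⊤_ _ ⟶ W), W ⟶ (co G K S ⋙ restr G K (Type u) S).obj W := fun {W} p =>
      ⟨sect G W.obj (pointVal p) (fun k => pointVal_map p k)⟩
    let r := (coAdj G K S).counit
    have hir : ∀ {W : Sheaf (K S) (Type u)} (p : ⊤_ _ ⟶ W), i p ≫ r.app W = 𝟙 W := fun {W} p => by
      apply (sheafToPresheaf (K S) (Type u)).map_injective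
      show sect G W.obj (pointVal p) (fun k => pointVal_map p k) ≫ ((coAdj G K S).counit.app W).hom = 𝟙 _
      rw [coAdj_counit_hom, (coPshAdj G S).homEquiv_symm_id]
      exact sect_counit G W.obj _ _
    have hnat : ∀ {W W' : Sheaf (K S) (Type u)} (p : ⊤_ _ ⟶ W) (φ : W ⟶ W') (p' : ⊤_ _ ⟶ W'), p ≫ φ = p' →
        i p ≫ (co G K S ⋙ restr G K (Type u) S).map φ = φ ≫ i p' := fun {W W'} p φ p' hp' => by
      subst hp'
      apply (sheafToPresheaf (K S) (Type u)).map_injective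
      exact (sect_naturality G φ.hom _ (fun k => pointVal_map p k) _ (fun k => pointVal_map (p ≫ φ) k)
        (fun V => pointVal_comp p φ V)).symm
    let pP : ⊤_ _ ⟶ P := h.lift pX pY hp
    haveI : PreservesLimit (cospan ((co G K S).map f) ((co G K S).map g)) (restr G K (Type u) S ⋙ Φ) :=
      PreservesLimitsOfShape.preservesLimit
    refine isPullback_of_retract ((h.map (co G K S)).map (restr G K (Type u) S ⋙ Φ)) (by rw [← Φ.map_comp, ← Φ.map_comp, h.w])
      (Φ.map (i pP)) (Φ.map (i pX)) (Φ.map (i pY)) (Φ.map (i (pX ≫ f))) (Φ.map (r.app P)) (Φ.map (r.app X)) (Φ.map (r.app Y))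
      ?_ ?_ ?_ ?_ ?_ ?_ ?_ ?_ ?_
    · exact (Φ.map_comp _ _).symm.trans ((congrArg Φ.map (hir pP)).trans (Φ.map_id _))
    · exact (Φ.map_comp _ _).symm.trans ((congrArg Φ.map (hir pX)).trans (Φ.map_id _))
    · exact (Φ.map_comp _ _).symm.trans ((congrArg Φ.map (hir pY)).trans (Φ.map_id _))
    · exact (Φ.map_comp _ _).symm.trans ((congrArg Φ.map (hnat pP fst pX (h.lift_fst _ _ _))).trans (Φ.map_comp _ _))
    · exact (Φ.map_comp _ _).symm.trans ((congrArg Φ.map (hnat pP snd pY (h.lift_snd _ _ _))).trans (Φ.map_comp _ _))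
    · exact (Φ.map_comp _ _).symm.trans ((congrArg Φ.map (hnat pX f _ rfl)).trans (Φ.map_comp _ _))
    · exact (Φ.map_comp _ _).symm.trans ((congrArg Φ.map (hnat pY g (pX ≫ f) hp.symm)).trans (Φ.map_comp _ _))
    · exact (Φ.map_comp _ _).symm.trans ((congrArg Φ.map (r.naturality fst).symm).trans (Φ.map_comp _ _))
    · exact (Φ.map_comp _ _).symm.trans ((congrArg Φ.map (r.naturality snd).symm).trans (Φ.map_comp _ _))
  exact preservesFiniteLimits_of_preservesTerminal_and_pullbacks Φ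

end fibre

variable {𝒮 : Type u} [SmallCategory 𝒮] {F G : Pseudofunctor (LocallyDiscrete 𝒮ᵒᵖ) Cat.{u, u}} (α : G ⟶ F)
  (J : Topologies F) (K : Topologies G)

theorem morphismOfSites_fibre (hF : IsFibSite F J) (hG : IsFibSite G K)
    (hα : ∃ (_ : (map α).IsContinuous (totalTopology G K) (totalTopology F J))
      (_ : ((map α).sheafPushforwardContinuous (Type u) (totalTopology G K) (totalTopology F J)).IsRightAdjoint),
      PreservesFiniteLimits ((map α).sheafPullback (Type u) (totalTopology G K) (totalTopology F J))) (S : 𝒮) :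
    ∃ (_ : (α.app ⟨op S⟩).toFunctor.IsContinuous (K S) (J S))
      (_ : ((α.app ⟨op S⟩).toFunctor.sheafPushforwardContinuous (Type u) (K S) (J S)).IsRightAdjoint),
      PreservesFiniteLimits ((α.app ⟨op S⟩).toFunctor.sheafPullback (Type u) (K S) (J S)) := by
  obtain ⟨_, _, _⟩ := hα
  haveI : ∀ (R S : 𝒮) (f : R ⟶ S), (invImage F f).IsContinuous (J S) (J R) := fun R S f => hF.isPreFibSite f
  haveI := ι_isContinuous hF.isPreFibSite
  haveI := ι_isCocontinuous hF.isPreFibSite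
  haveI := ι_isContinuous hG.isPreFibSite
  haveI := ι_isCocontinuous hG.isPreFibSite
  haveI := app_isContinuous α (J := J) (K := K) hF.isPreFibSite S
  haveI : ((α.app ⟨op S⟩).toFunctor.sheafPushforwardContinuous (Type u) (K S) (J S)).IsRightAdjoint := inferInstance
  exact ⟨inferInstance, inferInstance, app_preservesFiniteLimits α S⟩

end Groth.Agent.FibTop
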