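import Groth.Agent.FibTop.Coext

/-! # Cartesian functors between fibred sites -/

set_option autoImplicit false
set_option linter.all false
set_option backward.isDefEq.respectTransparency false
set_option backward.isDefEq.respectTransparency.types false
set_option backward.defeqAttrib.useBackward true

universe u

open CategoryTheory Opposite Pseudofunctor.CoGrothendieck Limits
open scoped CategoryTheory.Pseudofunctor.StrongTrans
open FibSite

namespace Groth.Agent.FibTop

variable {𝒮 : Type u} [SmallCategory 𝒮] {F G : Pseudofunctor (LocallyDiscrete 𝒮ᵒᵖ) Cat.{u, u}} (α : G ⟶ F)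

/-- the comparison isomorphism of a cartesian functor -/
def natIso {R S : 𝒮} (f : R ⟶ S) (W : G.obj ⟨op S⟩) :
    (α.app ⟨op R⟩).toFunctor.obj ((invImage G f).obj W) ≅ (invImage F f).obj ((α.app ⟨op S⟩).toFunctor.obj W) :=
  (Cat.Hom.toNatIso (α.naturality f.op.toLoc)).app W

lemma map_hom {R S : 𝒮} {V : G.obj ⟨op R⟩} {W : G.obj ⟨op S⟩} (f : R ⟶ S) (φ : V ⟶ (invImage G f).obj W) :
    (map α).map (hom f φ) = hom f ((α.app ⟨op R⟩).toFunctor.map φ ≫ (natIso α f W).hom) := rfl

lemma map_ι {S : 𝒮} {V W : G.obj ⟨op S⟩} (k : V ⟶ W) :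
    (map α).map ((ι G S).map k) = (ι F S).map ((α.app ⟨op S⟩).toFunctor.map k) := by
  refine Hom.ext _ _ rfl ?_
  simp [Cat.Hom.comp_toFunctor, Cat.Hom.id_toFunctor, Pseudofunctor.StrongTrans.naturality_id_hom_app, ← Category.assoc,
    ← Functor.map_comp, ← Cat.Hom₂.comp_app]
  simp [Category.assoc, ← Cat.Hom₂.comp_app]

def ιCompMapIso (S : 𝒮) : (α.app ⟨op S⟩).toFunctor ⋙ ι F S ≅ ι G S ⋙ map α :=
  NatIso.ofComponents (fun _ => Iso.refl _) (fun k => by
    simp only [Functor.comp_map, Iso.refl_hom]
    rw [map_ι]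
    exact (Category.comp_id _).trans (Category.id_comp _).symm)

variable {J : Topologies F} {K : Topologies G}

lemma map_isContinuous (hF : IsPreFibSite F J) (hG : IsPreFibSite G K)
    (hα : ∀ S : 𝒮, (α.app ⟨op S⟩).toFunctor.IsContinuous (K S) (J S)) :
    (map α).IsContinuous (totalTopology G K) (totalTopology F J) := by
  refine (isContinuous_iff hG _ _).2 (fun S => ?_)
  haveI := hα S
  haveI := ι_isContinuous hF S
  exact Functor.isContinuous_comp' (ιCompMapIso α S) (K S) (J S) (totalTopology F J)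

/-- the base change map at the level of presheaves -/
def compareApp (i : 𝒮) (b : (F.obj ⟨op i⟩)ᵒᵖ ⥤ Type u) (X : ∫ᶜ G)
    (φ : ((coPsh F i).obj b).obj (op ((map α).obj X))) :
    ((coPsh G i).obj ((α.app ⟨op i⟩).toFunctor.op ⋙ b)).obj (op X) where
  app V := ↾(fun t => φ.app (op ((α.app ⟨op i⟩).toFunctor.obj V.unop)) ((map α).map t))
  naturality V V' k := by
    ext t
    show φ.app _ ((map α).map ((ι G i).map k.unop ≫ t)) = _
    rw [(map α).map_comp, map_ι]
    exact coPsh_app_natural F b φ ((α.app ⟨op i⟩).toFunctor.map k.unop).op ((map α).map t)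

lemma ev_compareApp {i j : 𝒮} (f : i ⟶ j) (b : (F.obj ⟨op i⟩)ᵒᵖ ⥤ Type u) (W : G.obj ⟨op j⟩)
    (φ : ((coPsh F i).obj b).obj (op ((map α).obj ((ι G j).obj W)))) :
    ev G f ((α.app ⟨op i⟩).toFunctor.op ⋙ b) W (compareApp α i b _ φ) =
      b.map (natIso α f W).hom.op (ev F f b ((α.app ⟨op j⟩).toFunctor.obj W) φ) := by
  show φ.app _ ((map α).map (hom f (𝟙 _))) = _
  have e : (map α).map (hom f (𝟙 ((invImage G f).obj W))) =
      (ι F i).map (natIso α f W).hom ≫ hom f (𝟙 ((invImage F f).obj ((α.app ⟨op j⟩).toFunctor.obj W))) := by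
    rw [map_hom, CategoryTheory.Functor.map_id, Category.id_comp, ι_comp_hom, Category.comp_id]
  refine (congrArg (φ.app _) e).trans ?_
  exact coPsh_app_natural F b φ (natIso α f W).hom.op (hom f (𝟙 _))

variable (J K)
variable [∀ (R S : 𝒮) (f : R ⟶ S), (invImage F f).IsContinuous (J S) (J R)]
variable [∀ S : 𝒮, (ι F S).IsContinuous (J S) (totalTopology F J)]
  [∀ S : 𝒮, (ι F S).IsCocontinuous (J S) (totalTopology F J)]
  [∀ S : 𝒮, (ι G S).IsContinuous (K S) (totalTopology G K)]
  [∀ S : 𝒮, (ι G S).IsCocontinuous (K S) (totalTopology G K)]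
  [(map α).IsContinuous (totalTopology G K) (totalTopology F J)]

noncomputable def baseChangeIso (i : 𝒮) [(α.app ⟨op i⟩).toFunctor.IsContinuous (K i) (J i)] :
    co F J i ⋙ (map α).sheafPushforwardContinuous (Type u) (totalTopology G K) (totalTopology F J) ≅
      (α.app ⟨op i⟩).toFunctor.sheafPushforwardContinuous (Type u) (K i) (J i) ⋙ co G K i := by
  refine NatIso.ofComponents (fun b => (fullyFaithfulSheafToPresheaf _ _).preimageIso
    (NatIso.ofComponents (fun X => (Equiv.ofBijective (compareApp α i b.obj X.unop) ?_).toIso) ?_)) ?_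
  · rcases X with ⟨j, W⟩
    have hbij : ∀ f : i ⟶ j, Function.Bijective (b.obj.map (natIso α f W).hom.op) := fun f =>
      (isIso_iff_bijective _).1 inferInstance
    refine ⟨fun x y h => (ev_bijective F b.obj _).1 (funext fun f => (hbij f).1 ?_), fun z => ?_⟩
    · exact (ev_compareApp α f b.obj W x).symm.trans
        ((congrArg (ev G f _ W) h).trans (ev_compareApp α f b.obj W y))
    · choose s hs using fun f => (hbij f).2 (ev G f _ W z)
      obtain ⟨x, hx⟩ := (ev_bijective F b.obj ((α.app ⟨op j⟩).toFunctor.obj W)).2 s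
      refine ⟨x, (ev_bijective G _ W).1 (funext fun f => ?_)⟩
      exact (ev_compareApp α f b.obj W x).trans ((congrArg _ (congrFun hx f)).trans (hs f))
  · intro X Y g
    ext φ
    apply NatTrans.ext
    funext V
    ext t
    show φ.app _ ((map α).map t ≫ (map α).map g.unop) = φ.app _ ((map α).map (t ≫ g.unop))
    rw [(map α).map_comp]
  · intro b b' β
    apply (sheafToPresheaf _ _).map_injective
    ext X φ
    rfl

lemma preservesFiniteLimits_sheafPullback_map
    [((map α).sheafPushforwardContinuous (Type u) (totalTopology G K) (totalTopology F J)).IsRightAdjoint]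
    (hα : ∀ S : 𝒮, ∃ (_ : (α.app ⟨op S⟩).toFunctor.IsContinuous (K S) (J S))
      (_ : ((α.app ⟨op S⟩).toFunctor.sheafPushforwardContinuous (Type u) (K S) (J S)).IsRightAdjoint),
      PreservesFiniteLimits ((α.app ⟨op S⟩).toFunctor.sheafPullback (Type u) (K S) (J S))) :
    PreservesFiniteLimits ((map α).sheafPullback (Type u) (totalTopology G K) (totalTopology F J)) := by
  refine preservesFiniteLimits_of_restr _ (fun S => ?_)
  obtain ⟨_, _, _⟩ := hα S
  let adjL := (((map α).sheafAdjunctionContinuous (Type u) (totalTopology G K) (totalTopology F J)).comp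
    (coAdj F J S)).ofNatIsoRight (baseChangeIso α J K S)
  let adjR := (coAdj G K S).comp
    ((α.app ⟨op S⟩).toFunctor.sheafAdjunctionContinuous (Type u) (K S) (J S))
  haveI : PreservesFiniteLimits (restr G K (Type u) S) := by
    haveI : PreservesLimitsOfSize.{0, 0} (restr G K (Type u) S) :=
      ((ι G S).sheafAdjunctionContinuous (Type u) (K S) (totalTopology G K)).rightAdjoint_preservesLimits
    infer_instance
  haveI : PreservesFiniteLimits (restr G K (Type u) S ⋙
      (α.app ⟨op S⟩).toFunctor.sheafPullback (Type u) (K S) (J S)) := comp_preservesFiniteLimits _ _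
  exact preservesFiniteLimits_of_natIso (adjR.leftAdjointUniq adjL)

end Groth.Agent.FibTop

namespace Groth.Agent.FibTop

variable {𝒮 : Type u} [SmallCategory 𝒮] {F G : Pseudofunctor (LocallyDiscrete 𝒮ᵒᵖ) Cat.{u, u}} (α : G ⟶ F)
  (J : Topologies F) (K : Topologies G)

theorem map_morphismOfSites (hF : IsFibSite F J) (hG : IsFibSite G K)
    (hα : ∀ S : 𝒮, ∃ (_ : (α.app ⟨op S⟩).toFunctor.IsContinuous (K S) (J S))
      (_ : ((α.app ⟨op S⟩).toFunctor.sheafPushforwardContinuous (Type u) (K S) (J S)).IsRightAdjoint),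
      PreservesFiniteLimits ((α.app ⟨op S⟩).toFunctor.sheafPullback (Type u) (K S) (J S))) :
    ∃ (_ : (map α).IsContinuous (totalTopology G K) (totalTopology F J))
      (_ : ((map α).sheafPushforwardContinuous (Type u) (totalTopology G K) (totalTopology F J)).IsRightAdjoint),
      PreservesFiniteLimits ((map α).sheafPullback (Type u) (totalTopology G K) (totalTopology F J)) := by
  haveI : ∀ (R S : 𝒮) (f : R ⟶ S), (invImage F f).IsContinuous (J S) (J R) := fun R S f => hF.isPreFibSite f
  haveI := ι_isContinuous hF.isPreFibSite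
  haveI := ι_isCocontinuous hF.isPreFibSite
  haveI := ι_isContinuous hG.isPreFibSite
  haveI := ι_isCocontinuous hG.isPreFibSite
  haveI := map_isContinuous α hF.isPreFibSite hG.isPreFibSite (fun S => (hα S).choose)
  haveI : ((map α).sheafPushforwardContinuous (Type u) (totalTopology G K) (totalTopology F J)).IsRightAdjoint :=
    inferInstance
  exact ⟨‹_›, ‹_›, preservesFiniteLimits_sheafPullback_map α J K hα⟩

end Groth.Agent.FibTop
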